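import Mathlib

/-!
# Carmichael's presentation of the alternating groups

`A_{k+2}` is presented by generators `x_i`, `i ∈ α`, `|α| = k`, and relations `x_i³ = (x_i x_j)² = 1`.
-/

set_option autoImplicit false
set_option linter.unusedSectionVars false
set_option linter.unusedSimpArgs false
set_option linter.unusedVariables false

namespace Cfsg.Agent.Lib.Pres.Carmichael

open Equiv Equiv.Perm

section Bound

variable {Γ : Type*} [Group Γ] {α : Type*}

/-- The Carmichael relations. -/
structure IsCar (x : α → Γ) : Prop where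
  cube : ∀ i, x i ^ 3 = 1
  pair : ∀ i j, i ≠ j → (x i * x j) ^ 2 = 1

theorem sq_inv_eq {a : Γ} (h : a ^ 3 = 1) : a * a = a⁻¹ := by
  rw [eq_inv_iff_mul_eq_one, ← pow_three', h]

theorem id1 {a b : Γ} (h : (a * b) ^ 2 = 1) : a * b = b⁻¹ * a⁻¹ := by
  rw [← mul_inv_rev, eq_inv_iff_mul_eq_one, ← sq, h]

theorem id2 {a b : Γ} (h : (a * b) ^ 2 = 1) : b * a * b = a⁻¹ := by
  rw [eq_inv_iff_mul_eq_one]
  have h' : a * b * (a * b) = 1 := by rw [← sq, h]
  calc b * a * b * a = a⁻¹ * (a * b * (a * b)) * a := by group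
    _ = 1 := by rw [h']; group

theorem id3 {a b : Γ} (ha : a ^ 3 = 1) (hba : (b * a) ^ 2 = 1) : a * b⁻¹ = a⁻¹ * b * a := by
  have h1 := id1 hba
  have h2 := sq_inv_eq ha
  calc a * b⁻¹ = a * (a * a) * (a⁻¹ * a⁻¹) * b⁻¹ := by group
    _ = (a⁻¹ * a⁻¹) * b⁻¹ := by
        rw [show a * (a * a) = a ^ 3 by rw [pow_three], ha, one_mul]
    _ = a⁻¹ * (a⁻¹ * b⁻¹) := by group
    _ = a⁻¹ * b * a := by rw [← h1]; group

theorem id4 {a b : Γ} (ha : a ^ 3 = 1) (hb : b ^ 3 = 1) (hab : (a * b) ^ 2 = 1)
    (hba : (b * a) ^ 2 = 1) : b * a⁻¹ * b = a⁻¹ * b * a⁻¹ := by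
  have h1 := id1 hba
  have h2 := id1 hab
  have h3 := sq_inv_eq ha
  have h4 := sq_inv_eq hb
  calc b * a⁻¹ * b = b * (a * a) * b := by rw [h3]
    _ = (b * a) * (a * b) := by group
    _ = (a⁻¹ * b⁻¹) * (b⁻¹ * a⁻¹) := by rw [h1, h2]
    _ = a⁻¹ * (b⁻¹ * b⁻¹) * a⁻¹ := by group
    _ = a⁻¹ * b * a⁻¹ := by
        have : b⁻¹ * b⁻¹ = b := by
          rw [← mul_inv_rev, h4]; group
        rw [this]

theorem id5 {a b c : Γ} (ha : a ^ 3 = 1) (hac : (a * c) ^ 2 = 1) (hcb : (c * b) ^ 2 = 1)
    (hab : (a * b) ^ 2 = 1) :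
    c * a⁻¹ * b = a⁻¹ * b * (c * a⁻¹) := by
  -- conjugating `c` by `a⁻¹ b`
  have h1 : a * c * a⁻¹ = c⁻¹ * a := by
    have := id1 hac
    rw [this]
    have h3 := sq_inv_eq ha
    calc c⁻¹ * a⁻¹ * a⁻¹ = c⁻¹ * (a⁻¹ * a⁻¹) := by group
      _ = c⁻¹ * a := by
        have : a⁻¹ * a⁻¹ = a := by
          rw [← mul_inv_rev, h3]; group
        rw [this]
  have h2 : b⁻¹ * c⁻¹ = c * b := (id1 hcb).symm
  have h4 : b * a * b = a⁻¹ := id2 hab
  have key : b⁻¹ * (a * c * a⁻¹) * b = c * a⁻¹ := by
    rw [h1]
    calc b⁻¹ * (c⁻¹ * a) * b = (b⁻¹ * c⁻¹) * a * b := by group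
      _ = c * (b * a * b) := by rw [h2]; group
      _ = c * a⁻¹ := by rw [h4]
  calc c * a⁻¹ * b = a⁻¹ * b * (b⁻¹ * (a * c * a⁻¹) * b) := by group
    _ = a⁻¹ * b * (c * a⁻¹) := by rw [key]

open Classical in
/-- The main bound. -/
theorem card_closure_le (x : α → Γ) (hx : IsCar x) (s : Finset α) :
    Finite (Subgroup.closure (x '' (s : Set α))) ∧
      2 * Nat.card (Subgroup.closure (x '' (s : Set α))) ≤ (s.card + 2).factorial := by
  induction s using Finset.induction_on with
  | empty =>
    have : Subgroup.closure (x '' ((∅ : Finset α) : Set α)) = ⊥ := by simp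
    rw [this]
    constructor
    · infer_instance
    · simp
  | insert n s hn ih =>
    obtain ⟨hfin, hcard⟩ := ih
    set H := Subgroup.closure (x '' (s : Set α)) with hH
    set C := Subgroup.closure (x '' ((insert n s : Finset α) : Set α)) with hC
    set e := x n with he
    have hxH : ∀ i ∈ s, x i ∈ H := fun i hi => Subgroup.subset_closure ⟨i, hi, rfl⟩
    -- the representatives
    let T : Finset Γ := {1, e, e⁻¹} ∪ s.image (fun j => (x j)⁻¹ * e)
    have hTcard : T.card ≤ s.card + 3 := by
      calc T.card ≤ ({1, e, e⁻¹} : Finset Γ).card + (s.image (fun j => (x j)⁻¹ * e)).card :=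
            Finset.card_union_le _ _
        _ ≤ 3 + s.card := by
            apply Nat.add_le_add Finset.card_le_three Finset.card_image_le
        _ = s.card + 3 := by ring
    let S : Set Γ := {g | ∃ t ∈ T, ∃ h ∈ H, g = t * h}
    have h1T : (1 : Γ) ∈ T := by simp [T]
    have heT : e ∈ T := by simp [T]
    have heiT : e⁻¹ ∈ T := by simp [T]
    have hjT : ∀ j ∈ s, (x j)⁻¹ * e ∈ T := fun j hj =>
      Finset.mem_union_right _ (Finset.mem_image_of_mem _ hj)
    have hne : ∀ j ∈ s, j ≠ n := fun j hj hjn => hn (hjn ▸ hj)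
    -- closure under left multiplication by the generators
    have step : ∀ a ∈ x '' ((insert n s : Finset α) : Set α), ∀ g ∈ S, a * g ∈ S := by
      rintro a ⟨i, hi, rfl⟩ g ⟨t, ht, h, hh, rfl⟩
      have hi' : i = n ∨ i ∈ s := by simpa using hi
      have ht' : t = 1 ∨ t = e ∨ t = e⁻¹ ∨ ∃ j ∈ s, t = (x j)⁻¹ * e := by
        simp only [T, Finset.mem_union, Finset.mem_insert, Finset.mem_singleton,
          Finset.mem_image] at ht
        rcases ht with ht | ⟨j, hj, rfl⟩
        · rcases ht with rfl | rfl | rfl <;> simp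
        · exact Or.inr (Or.inr (Or.inr ⟨j, hj, rfl⟩))
      rcases hi' with rfl | hi'
      · -- the new generator
        rcases ht' with rfl | rfl | rfl | ⟨j, hj, rfl⟩
        · exact ⟨e, heT, h, hh, by simp [he]⟩
        · refine ⟨e⁻¹, heiT, h, hh, ?_⟩
          rw [← mul_assoc, sq_inv_eq (hx.cube i)]
        · exact ⟨1, h1T, h, hh, by simp [he]⟩
        · refine ⟨(x j)⁻¹ * e, hjT j hj, (x j)⁻¹ * h, H.mul_mem (H.inv_mem (hxH j hj)) hh, ?_⟩
          have := id4 (hx.cube j) (hx.cube i) (hx.pair j i (hne j hj)) (hx.pair i j (hne j hj).symm)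
          simp only [he]
          calc x i * ((x j)⁻¹ * x i * h) = (x i * (x j)⁻¹ * x i) * h := by group
            _ = ((x j)⁻¹ * x i * (x j)⁻¹) * h := by rw [this]
            _ = (x j)⁻¹ * x i * ((x j)⁻¹ * h) := by group
      · have hin := hne i hi'
        rcases ht' with rfl | rfl | rfl | ⟨j, hj, rfl⟩
        · exact ⟨1, h1T, x i * h, H.mul_mem (hxH i hi') hh, by simp⟩
        · refine ⟨e⁻¹, heiT, (x i)⁻¹ * h, H.mul_mem (H.inv_mem (hxH i hi')) hh, ?_⟩
          have := id1 (hx.pair i n hin)
          rw [← mul_assoc, ← he] at *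
          rw [this]; group
        · refine ⟨(x i)⁻¹ * e, hjT i hi', x i * h, H.mul_mem (hxH i hi') hh, ?_⟩
          have := id3 (hx.cube i) (hx.pair n i hin.symm)
          rw [← mul_assoc, ← he] at *
          rw [this]; group
        · by_cases hij : i = j
          · subst hij
            exact ⟨e, heT, h, hh, by group⟩
          · refine ⟨(x j)⁻¹ * e, hjT j hj, x i * (x j)⁻¹ * h,
              H.mul_mem (H.mul_mem (hxH i hi') (H.inv_mem (hxH j hj))) hh, ?_⟩
            have := id5 (hx.cube j) (hx.pair j i (Ne.symm hij)) (hx.pair i n hin)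
              (hx.pair j n (hne j hj))
            rw [← he] at this
            calc x i * ((x j)⁻¹ * e * h) = (x i * (x j)⁻¹ * e) * h := by group
              _ = ((x j)⁻¹ * e * (x i * (x j)⁻¹)) * h := by rw [this]
              _ = (x j)⁻¹ * e * (x i * (x j)⁻¹ * h) := by group
    have hcov : ∀ g ∈ C, g ∈ S := by
      intro g hg
      induction hg using Subgroup.closure_induction_left with
      | one => exact ⟨1, h1T, 1, H.one_mem, by simp⟩
      | mul_left a ha y hy ih => exact step a ha y ih
      | inv_mul_cancel a ha y hy ih =>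
        obtain ⟨i, hi, rfl⟩ := ha
        have h3 : (x i)⁻¹ * y = x i * (x i * y) := by
          rw [← mul_assoc, sq_inv_eq (hx.cube i)]
        rw [h3]
        exact step _ ⟨i, hi, rfl⟩ _ (step _ ⟨i, hi, rfl⟩ _ ih)
    haveI : Finite H := hfin
    have hS : S = (fun q : ↥T × ↥H => (q.1 : Γ) * (q.2 : Γ)) '' Set.univ := by
      ext g
      constructor
      · rintro ⟨t, ht, h, hh, rfl⟩
        exact ⟨(⟨t, ht⟩, ⟨h, hh⟩), trivial, rfl⟩
      · rintro ⟨q, -, rfl⟩
        exact ⟨q.1, q.1.2, q.2, q.2.2, rfl⟩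
    have hSfin : S.Finite := by
      rw [hS]
      exact (Set.finite_univ).image _
    have hCS : (C : Set Γ) ⊆ S := hcov
    have hfinC : Finite C := (hSfin.subset hCS).to_subtype
    refine ⟨hfinC, ?_⟩
    have hc1 : Nat.card C ≤ T.card * Nat.card H := by
      have h1 : Nat.card C = (C : Set Γ).ncard := (Nat.card_coe_set_eq _)
      have h2 : (C : Set Γ).ncard ≤ S.ncard := Set.ncard_le_ncard hCS hSfin
      have h3 : S.ncard ≤ Nat.card (↥T × ↥H) := by
        rw [hS]
        refine (Set.ncard_image_le (Set.finite_univ)).trans ?_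
        rw [Set.ncard_univ]
      have h4 : Nat.card (↥T × ↥H) = T.card * Nat.card H := by
        rw [Nat.card_prod]
        simp
      omega
    rw [Finset.card_insert_of_notMem hn]
    calc 2 * Nat.card C ≤ 2 * ((s.card + 3) * Nat.card H) := by
          apply Nat.mul_le_mul_left
          exact hc1.trans (Nat.mul_le_mul_right _ hTcard)
      _ = (s.card + 3) * (2 * Nat.card H) := by ring
      _ ≤ (s.card + 3) * (s.card + 2).factorial := Nat.mul_le_mul_left _ hcard
      _ = (s.card + 2 + 1) * (s.card + 2).factorial := by ring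
      _ = (s.card + 1 + 2).factorial := (Nat.factorial_succ (s.card + 2)).symm

end Bound

section Perms

variable {α : Type*} [DecidableEq α]

/-- The 3-cycle `(q, ∞₁, ∞₂)`. -/
def cyc (q : α) : Perm (α ⊕ Bool) :=
  swap (Sum.inl q) (Sum.inr false) * swap (Sum.inr false) (Sum.inr true)

theorem cyc_inl_self (q : α) : cyc q (Sum.inl q) = Sum.inr false := by
  simp [cyc, swap_apply_def]

theorem cyc_inr_false (q : α) : cyc q (Sum.inr false) = Sum.inr true := by
  simp [cyc, swap_apply_def]

theorem cyc_inr_true (q : α) : cyc q (Sum.inr true) = Sum.inl q := by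
  simp [cyc, swap_apply_def]

theorem cyc_inl_of_ne {q k : α} (h : k ≠ q) : cyc q (Sum.inl k) = Sum.inl k := by
  simp [cyc, swap_apply_def, h]

theorem isCar_cyc : IsCar (cyc : α → Perm (α ⊕ Bool)) := by
  constructor
  · intro q
    ext ω
    rcases ω with k | b
    · by_cases h : k = q
      · subst h
        simp [pow_three, cyc_inl_self, cyc_inr_false, cyc_inr_true]
      · simp [pow_three, cyc_inl_of_ne h]
    · cases b <;> simp [pow_three, cyc_inl_self, cyc_inr_false, cyc_inr_true]
  · intro i j hij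
    ext ω
    rcases ω with k | b
    · by_cases h : k = i
      · subst h
        simp [sq, cyc_inl_self, cyc_inr_false, cyc_inr_true, cyc_inl_of_ne hij, cyc_inl_of_ne hij.symm]
      · by_cases h' : k = j
        · subst h'
          simp [sq, cyc_inl_self, cyc_inr_false, cyc_inr_true, cyc_inl_of_ne h, cyc_inl_of_ne hij,
            cyc_inl_of_ne hij.symm]
        · simp [sq, cyc_inl_of_ne h, cyc_inl_of_ne h']
    · cases b <;>
        simp [sq, cyc_inl_self, cyc_inr_false, cyc_inr_true, cyc_inl_of_ne hij, cyc_inl_of_ne hij.symm]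

theorem sign_cyc [Fintype α] (q : α) : sign (cyc q) = 1 := by
  rw [cyc, map_mul, sign_swap (by simp), sign_swap (by simp)]
  decide

theorem conj_cyc (G : Perm (α ⊕ Bool)) {q q' : α} (hq : G (Sum.inl q) = Sum.inl q')
    (h0 : G (Sum.inr false) = Sum.inr false) (h1 : G (Sum.inr true) = Sum.inr true) :
    G * cyc q * G⁻¹ = cyc q' := by
  have h2 : G * cyc q * G⁻¹ =
      (G * swap (Sum.inl q) (Sum.inr false) * G⁻¹) * (G * swap (Sum.inr false) (Sum.inr true) * G⁻¹) := by
    rw [cyc]; group
  rw [h2, ← swap_apply_apply, ← swap_apply_apply, hq, h0, h1, cyc]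

theorem cyc_inv (q : α) : (cyc q)⁻¹ =
    swap (Sum.inl q) (Sum.inr true) * swap (Sum.inr true) (Sum.inr false) := by
  rw [inv_eq_iff_mul_eq_one]
  ext ω
  rcases ω with k | b
  · by_cases h : k = q
    · subst h
      simp [cyc, swap_apply_def]
    · simp [cyc, swap_apply_def, h]
  · cases b <;> simp [cyc, swap_apply_def]

theorem conj_cyc_swap (G : Perm (α ⊕ Bool)) {q q' : α} (hq : G (Sum.inl q) = Sum.inl q')
    (h0 : G (Sum.inr false) = Sum.inr true) (h1 : G (Sum.inr true) = Sum.inr false) :
    G * cyc q * G⁻¹ = (cyc q')⁻¹ := by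
  have h2 : G * cyc q * G⁻¹ =
      (G * swap (Sum.inl q) (Sum.inr false) * G⁻¹) * (G * swap (Sum.inr false) (Sum.inr true) * G⁻¹) := by
    rw [cyc]; group
  rw [h2, ← swap_apply_apply, ← swap_apply_apply, hq, h0, h1, cyc_inv]

theorem closure_cyc [Fintype α] :
    Subgroup.closure (Set.range (cyc : α → Perm (α ⊕ Bool))) = alternatingGroup (α ⊕ Bool) := by
  set K := Subgroup.closure (Set.range (cyc : α → Perm (α ⊕ Bool))) with hK
  apply le_antisymm
  · rw [Subgroup.closure_le]
    rintro _ ⟨q, rfl⟩
    exact sign_cyc q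
  have hcy : ∀ q, cyc q ∈ K := fun q => Subgroup.subset_closure ⟨q, rfl⟩
  set σ : Perm (α ⊕ Bool) := swap (Sum.inr false) (Sum.inr true) with hσ
  have hσσ : σ * σ = 1 := swap_mul_self _ _
  have hsigma : sign σ = -1 := sign_swap (by simp)
  -- stars
  have hstar : ∀ a : α ⊕ Bool, a ≠ Sum.inr false → swap a (Sum.inr false) * σ ∈ K := by
    intro a ha
    rcases a with q | b
    · exact hcy q
    · cases b
      · exact absurd rfl ha
      · have : swap (Sum.inr true) (Sum.inr false) * σ = (1 : Perm (α ⊕ Bool)) := by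
          rw [swap_comm, hσσ]
        rw [this]
        exact K.one_mem
  have hstar' : ∀ a : α ⊕ Bool, a ≠ Sum.inr false → σ * swap a (Sum.inr false) ∈ K := by
    intro a ha
    have h := K.inv_mem (hstar a ha)
    have hσi : σ⁻¹ = σ := swap_inv _ _
    rwa [mul_inv_rev, hσi, swap_inv] at h
  -- all swaps
  have hswap : ∀ a b : α ⊕ Bool, a ≠ b → swap a b * σ ∈ K := by
    intro a b hab
    by_cases ha : a = Sum.inr false
    · subst ha
      rw [swap_comm]
      exact hstar b (Ne.symm hab)
    by_cases hb : b = Sum.inr false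
    · subst hb
      exact hstar a ha
    have h1 : swap a b = swap a (Sum.inr false) * swap (Sum.inr false) b * swap a (Sum.inr false) := by
      ext ω
      simp only [Perm.mul_apply, swap_apply_def]
      split_ifs <;> simp_all
    have h2 : swap a b * σ = (swap a (Sum.inr false) * σ) * (σ * swap b (Sum.inr false)) *
        (swap a (Sum.inr false) * σ) := by
      rw [h1, swap_comm (Sum.inr false) b]
      calc swap a (Sum.inr false) * swap b (Sum.inr false) * swap a (Sum.inr false) * σ
          = swap a (Sum.inr false) * 1 * swap b (Sum.inr false) * swap a (Sum.inr false) * σ := by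
            rw [mul_one]
        _ = swap a (Sum.inr false) * (σ * σ) * swap b (Sum.inr false) * swap a (Sum.inr false) * σ := by
            rw [hσσ]
        _ = _ := by group
    rw [h2]
    exact K.mul_mem (K.mul_mem (hstar a ha) (hstar' b hb)) (hstar a ha)
  have hswap' : ∀ a b : α ⊕ Bool, a ≠ b → σ * swap a b ∈ K := by
    intro a b hab
    have h := K.inv_mem (hswap a b hab)
    have hσi : σ⁻¹ = σ := swap_inv _ _
    rwa [mul_inv_rev, hσi, swap_inv] at h
  have hall : ∀ g : Perm (α ⊕ Bool), g ∈ K ∨ σ * g ∈ K := by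
    intro g
    induction g using swap_induction_on with
    | one => exact Or.inl K.one_mem
    | swap_mul f x y hxy ih =>
      rcases ih with ih | ih
      · right
        rw [← mul_assoc]
        exact K.mul_mem (hswap' x y hxy) ih
      · left
        have : swap x y * f = (swap x y * σ) * (σ * f) := by
          calc swap x y * f = swap x y * (σ * σ) * f := by rw [hσσ, mul_one]
            _ = _ := by group
        rw [this]
        exact K.mul_mem (hswap x y hxy) ih
  have hKalt : K ≤ alternatingGroup (α ⊕ Bool) := by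
    rw [hK, Subgroup.closure_le]
    rintro _ ⟨q, rfl⟩
    exact sign_cyc q
  intro g hg
  rcases hall g with h | h
  · exact h
  · exfalso
    have h1 : sign (σ * g) = 1 := hKalt h
    have h2 : sign g = 1 := hg
    rw [map_mul, hsigma, h2] at h1
    exact absurd h1 (by decide)

/-- `cyc` as an element of the alternating group. -/
def cycA [Fintype α] (q : α) : alternatingGroup (α ⊕ Bool) := ⟨cyc q, sign_cyc q⟩

theorem closure_cycA [Fintype α] :
    Subgroup.closure (Set.range (cycA : α → alternatingGroup (α ⊕ Bool))) = ⊤ := by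
  apply Subgroup.map_injective (alternatingGroup (α ⊕ Bool)).subtype_injective
  rw [MonoidHom.map_closure, ← MonoidHom.range_eq_map, Subgroup.range_subtype, ← Set.range_comp]
  exact closure_cyc

theorem isCar_cycA [Fintype α] : IsCar (cycA : α → alternatingGroup (α ⊕ Bool)) := by
  constructor
  · intro i
    apply Subtype.ext
    exact isCar_cyc.cube i
  · intro i j hij
    apply Subtype.ext
    exact isCar_cyc.pair i j hij

/-- The Carmichael relators. -/
def carRels (α : Type*) : Set (FreeGroup α) :=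
  {w | ∃ i, w = FreeGroup.of i ^ 3} ∪ {w | ∃ i j, i ≠ j ∧ w = (FreeGroup.of i * FreeGroup.of j) ^ 2}

theorem lift_carRels {Γ : Type*} [Group Γ] {x : α → Γ} (hx : IsCar x) :
    ∀ r ∈ carRels α, FreeGroup.lift x r = 1 := by
  rintro r (⟨i, rfl⟩ | ⟨i, j, hij, rfl⟩)
  · simpa using hx.cube i
  · simpa using hx.pair i j hij

/-- Carmichael's theorem, in universal form. -/
theorem exists_theta [Fintype α] {Γ : Type*} [Group Γ] (x : α → Γ) (hx : IsCar x) :
    ∃ θ : alternatingGroup (α ⊕ Bool) →* Γ, ∀ i, θ (cycA i) = x i := by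
  classical
  let P := PresentedGroup (carRels α)
  let φ : P →* alternatingGroup (α ⊕ Bool) := PresentedGroup.toGroup (lift_carRels isCar_cycA)
  have hP : IsCar (PresentedGroup.of (rels := carRels α)) := by
    constructor
    · intro i
      have : PresentedGroup.mk (carRels α) (FreeGroup.of i ^ 3) = 1 :=
        PresentedGroup.one_of_mem (Or.inl ⟨i, rfl⟩)
      simpa [PresentedGroup.of] using this
    · intro i j hij
      have : PresentedGroup.mk (carRels α) ((FreeGroup.of i * FreeGroup.of j) ^ 2) = 1 :=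
        PresentedGroup.one_of_mem (Or.inr ⟨i, j, hij, rfl⟩)
      simpa [PresentedGroup.of] using this
  have hcl : Subgroup.closure ((PresentedGroup.of (rels := carRels α)) '' ((Finset.univ : Finset α) : Set α)) = ⊤ := by
    rw [Finset.coe_univ, Set.image_univ]
    exact PresentedGroup.closure_range_of _
  obtain ⟨h1, h2⟩ := card_closure_le (PresentedGroup.of (rels := carRels α)) hP Finset.univ
  rw [hcl] at h1 h2
  haveI hfinP : Finite P := by
    exact Finite.of_equiv _ (Subgroup.topEquiv (G := P)).toEquiv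
  have hcardP : 2 * Nat.card P ≤ (Fintype.card α + 2).factorial := by
    have := h2
    rw [Nat.card_congr (Subgroup.topEquiv (G := P)).toEquiv] at this
    simpa using this
  have hsurj : Function.Surjective φ := by
    rw [← MonoidHom.range_eq_top, eq_top_iff, ← closure_cycA, Subgroup.closure_le]
    rintro _ ⟨i, rfl⟩
    exact ⟨PresentedGroup.of i, PresentedGroup.toGroup.of _⟩
  have hcardA : 2 * Nat.card (alternatingGroup (α ⊕ Bool)) = (Fintype.card α + 2).factorial := by
    haveI : Nontrivial (α ⊕ Bool) := ⟨⟨Sum.inr false, Sum.inr true, by simp⟩⟩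
    have := two_mul_card_alternatingGroup (α := α ⊕ Bool)
    rw [Nat.card_eq_fintype_card, this, Fintype.card_perm, Fintype.card_sum, Fintype.card_bool]
  have hbij : Function.Bijective φ := by
    refine ⟨?_, hsurj⟩
    refine (Function.Surjective.bijective_of_nat_card_le hsurj ?_).1
    omega
  let e : P ≃* alternatingGroup (α ⊕ Bool) := MulEquiv.ofBijective φ hbij
  refine ⟨(PresentedGroup.toGroup (lift_carRels hx)).comp e.symm.toMonoidHom, fun i => ?_⟩
  have h3 : e.symm (cycA i) = PresentedGroup.of i := by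
    rw [MulEquiv.symm_apply_eq]
    exact (PresentedGroup.toGroup.of (lift_carRels isCar_cycA)).symm
  have h4 : (PresentedGroup.toGroup (lift_carRels hx)) (PresentedGroup.of (rels := carRels α) i) = x i :=
    PresentedGroup.toGroup.of _
  simp only [MonoidHom.coe_comp, Function.comp_apply, MulEquiv.coe_toMonoidHom]
  rw [h3, h4]

end Perms

end Cfsg.Agent.Lib.Pres.Carmichael
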