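import Mathlib
import Cfsg.Agent.Lib.SmallTC
import Cfsg.Agent.Lib.Pres.Carmichael
import Cfsg.Agent.Lib.Pres.Model
import Cfsg.Agent.Lib.Pres.SmallCert

/-!
# Coset tables for `S_n` and `A_n`, `n ≤ 7`
-/

set_option autoImplicit false
set_option maxRecDepth 100000

namespace Cfsg.Agent.Lib.Pres.SmallData

open Equiv Equiv.Perm Cfsg.Agent.Lib.SmallTC Cfsg.Agent.Lib.Pres.Carmichael Cfsg.Agent.Lib.Pres.Model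
  Cfsg.Agent.Lib.Pres.SmallCert

/-- relators -/
def rlS2 : List (List ℕ) := [[0,0],[1,1],[0,1]]
/-- table -/
def tbS2 : List (List ℕ) := [[0,0]]
/-- words -/
def wdS2 : List (List ℕ) := [[]]
/-- tree -/
def trS2 : List (ℕ × ℕ) := []
/-- scans -/
def scS2 : List (ℕ × ℕ) := [(0,3),(0,2)]

theorem lenS2 : rlS2.length ≤ 6 := by decide

theorem tcS2 : check (tbl tbS2) (nth [] wdS2) (nth [] (rlS2 ++ [[0]])) rlS2.length 1 2 trS2 scS2 = true := by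
  decide +kernel

theorem relS2 : ∀ w ∈ rlS2, ev (gT (finRotate 2) (swap (0 : Fin 2) 1)) w = 1 := by
  decide +kernel

theorem presS2 : Nonempty (PP rlS2 ≃* Perm (Fin 2)) :=
  iso_of_cert (x := finRotate 2) (y := swap (0 : Fin 2) 1) (s := 0) (k := 2) (m := 1) (k0 := 1) (k1 := 1)
    (by decide) (by norm_num) (by decide) (by decide) tcS2 relS2
    (by
      have h := closure_cycle_adjacent_swap (isCycle_finRotate (n := 0)) support_finRotate 0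
      have h2 : finRotate (0 + 2) 0 = 1 := by decide
      rw [h2] at h
      exact h)
    (by
      rw [Nat.card_eq_fintype_card, Fintype.card_perm, Fintype.card_fin]
      decide)

/-- relators -/
def rlS3 : List (List ℕ) := [[0,0,0],[1,1],[0,1,0,1],[1,0,0,1,0,1,0,0,1,0,1,0,0,1,0]]
/-- table -/
def tbS3 : List (List ℕ) := [[0,1],[1,0]]
/-- words -/
def wdS3 : List (List ℕ) := [[],[1]]
/-- tree -/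
def trS3 : List (ℕ × ℕ) := [(0,1)]
/-- scans -/
def scS3 : List (ℕ × ℕ) := [(0,4),(0,1),(0,2)]

theorem lenS3 : rlS3.length ≤ 6 := by decide

theorem tcS3 : check (tbl tbS3) (nth [] wdS3) (nth [] (rlS3 ++ [[0]])) rlS3.length 2 2 trS3 scS3 = true := by
  decide +kernel

theorem relS3 : ∀ w ∈ rlS3, ev (gT (finRotate 3) (swap (0 : Fin 3) 1)) w = 1 := by
  decide +kernel

theorem presS3 : Nonempty (PP rlS3 ≃* Perm (Fin 3)) :=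
  iso_of_cert (x := finRotate 3) (y := swap (0 : Fin 3) 1) (s := 0) (k := 3) (m := 2) (k0 := 2) (k1 := 1)
    (by decide) (by norm_num) (by decide) (by decide) tcS3 relS3
    (by
      have h := closure_cycle_adjacent_swap (isCycle_finRotate (n := 1)) support_finRotate 0
      have h2 : finRotate (1 + 2) 0 = 1 := by decide
      rw [h2] at h
      exact h)
    (by
      rw [Nat.card_eq_fintype_card, Fintype.card_perm, Fintype.card_fin]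
      decide)

/-- relators -/
def rlS4 : List (List ℕ) := [[0,0,0,0],[1,1],[0,1,0,1,0,1],[1,0,0,0,1,0,1,0,0,0,1,0,1,0,0,0,1,0],[1,0,0,1,0,0,1,0,0,1,0,0]]
/-- table -/
def tbS4 : List (List ℕ) := [[0,1],[2,0],[3,4],[4,5],[1,2],[5,3]]
/-- words -/
def wdS4 : List (List ℕ) := [[],[1],[1,0],[1,0,0],[1,0,1],[1,0,0,1]]
/-- tree -/
def trS4 : List (ℕ × ℕ) := [(0,1),(1,0),(2,0),(2,1),(3,1)]
/-- scans -/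
def scS4 : List (ℕ × ℕ) := [(0,5),(0,1),(2,1),(3,1),(0,2),(1,0),(1,3)]

theorem lenS4 : rlS4.length ≤ 6 := by decide

theorem tcS4 : check (tbl tbS4) (nth [] wdS4) (nth [] (rlS4 ++ [[0]])) rlS4.length 6 2 trS4 scS4 = true := by
  decide +kernel

theorem relS4 : ∀ w ∈ rlS4, ev (gT (finRotate 4) (swap (0 : Fin 4) 1)) w = 1 := by
  decide +kernel

theorem presS4 : Nonempty (PP rlS4 ≃* Perm (Fin 4)) :=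
  iso_of_cert (x := finRotate 4) (y := swap (0 : Fin 4) 1) (s := 0) (k := 4) (m := 6) (k0 := 3) (k1 := 1)
    (by decide) (by norm_num) (by decide) (by decide) tcS4 relS4
    (by
      have h := closure_cycle_adjacent_swap (isCycle_finRotate (n := 2)) support_finRotate 0
      have h2 : finRotate (2 + 2) 0 = 1 := by decide
      rw [h2] at h
      exact h)
    (by
      rw [Nat.card_eq_fintype_card, Fintype.card_perm, Fintype.card_fin]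
      decide)

/-- relators -/
def rlS5 : List (List ℕ) := [[0,0,0,0,0],[1,1],[0,1,0,1,0,1,0,1],[1,0,0,0,0,1,0,1,0,0,0,0,1,0,1,0,0,0,0,1,0],[1,0,0,0,1,0,0,1,0,0,0,1,0,0]]
/-- table -/
def tbS5 : List (List ℕ) := [[0,1],[2,0],[3,4],[5,6],[7,2],[8,9],[10,3],[11,8],[1,7],[12,5],[13,14],[15,16],[6,17],[9,18],[19,10],[20,21],[18,11],[17,12],[22,13],[16,20],[4,19],[21,15],[14,23],[23,22]]
/-- words -/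
def wdS5 : List (List ℕ) := [[],[1],[1,0],[1,0,0],[1,0,1],[1,0,0,0],[1,0,0,1],[1,0,1,0],[1,0,0,0,0],[1,0,0,0,1],[1,0,0,1,0],[1,0,1,0,0],[1,0,0,0,1,0],[1,0,0,1,0,0],[1,0,0,1,0,1],[1,0,1,0,0,0],[1,0,1,0,0,1],[1,0,0,0,1,0,1],[1,0,0,1,0,0,1],[1,0,0,1,0,1,0],[1,0,1,0,0,0,0],[1,0,1,0,0,0,1],[1,0,0,1,0,0,1,0],[1,0,0,1,0,0,1,0,1]]
/-- tree -/
def trS5 : List (ℕ × ℕ) := [(0,1),(1,0),(2,0),(2,1),(3,0),(3,1),(4,0),(5,0),(5,1),(6,0),(7,0),(9,0),(10,0),(10,1),(11,0),(11,1),(12,1),(13,1),(14,0),(15,0),(15,1),(18,0),(22,1)]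
/-- scans -/
def scS5 : List (ℕ × ℕ) := [(0,5),(0,1),(2,1),(3,1),(5,1),(10,1),(11,1),(12,1),(13,1),(15,1),(22,1),(1,0),(4,0),(0,4),(1,4),(5,4),(0,2),(2,2),(3,2),(7,1),(19,1),(7,4),(8,4),(9,3),(18,3)]

theorem lenS5 : rlS5.length ≤ 6 := by decide

theorem tcS5 : check (tbl tbS5) (nth [] wdS5) (nth [] (rlS5 ++ [[0]])) rlS5.length 24 2 trS5 scS5 = true := by
  decide +kernel

theorem relS5 : ∀ w ∈ rlS5, ev (gT (finRotate 5) (swap (0 : Fin 5) 1)) w = 1 := by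
  decide +kernel

theorem presS5 : Nonempty (PP rlS5 ≃* Perm (Fin 5)) :=
  iso_of_cert (x := finRotate 5) (y := swap (0 : Fin 5) 1) (s := 0) (k := 5) (m := 24) (k0 := 4) (k1 := 1)
    (by decide) (by norm_num) (by decide) (by decide) tcS5 relS5
    (by
      have h := closure_cycle_adjacent_swap (isCycle_finRotate (n := 3)) support_finRotate 0
      have h2 : finRotate (3 + 2) 0 = 1 := by decide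
      rw [h2] at h
      exact h)
    (by
      rw [Nat.card_eq_fintype_card, Fintype.card_perm, Fintype.card_fin]
      decide)

/-- relators -/
def rlS6 : List (List ℕ) := [[0,0,0,0,0,0],[1,1],[0,1,0,1,0,1,0,1,0,1],[1,0,0,0,0,0,1,0,1,0,0,0,0,0,1,0,1,0,0,0,0,0,1,0],[1,0,0,0,0,1,0,0,1,0,0,0,0,1,0,0],[1,0,0,0,1,0,0,0,1,0,0,0,1,0,0,0]]
/-- table -/
def tbS6 : List (List ℕ) := [[0,1],[2,0],[3,4],[5,6],[7,2],[8,9],[10,3],[11,12],[13,14],[15,5],[16,17],[18,19],[20,7],[1,20],[21,8],[22,23],[24,25],[26,10],[27,28],[29,11],[30,13],[6,31],[9,32],[33,15],[14,34],[35,16],[36,37],[38,39],[40,18],[41,42],[43,44],[45,21],[46,22],[19,47],[48,24],[25,49],[28,50],[51,26],[4,51],[52,27],[53,54],[55,56],[57,29],[58,59],[60,30],[61,62],[63,64],[31,33],[65,66],[67,35],[68,36],[44,38],[59,69],[17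,70],[71,40],[23,72],[73,41],[74,75],[76,77],[78,43],[79,80],[81,82],[32,45],[75,83],[84,46],[77,85],[86,48],[87,88],[89,90],[91,52],[64,53],[82,92],[66,55],[83,89],[42,93],[94,57],[12,94],[95,58],[96,97],[98,99],[34,60],[92,100],[85,61],[101,63],[102,103],[104,65],[99,105],[100,106],[70,67],[107,73],[108,68],[69,109],[47,71],[90,74],[62,76],[80,110],[97,111],[39,78],[37,112],[113,79],[106,81],[111,114],[112,108],[72,84],[114,115],[49,86],[105,87],[110,116],[117,102],[50,91],[109,95],[115,96],[88,98],[103,118],[54,101],[56,104],[93,107],[118,119],[116,113],[119,117]]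
/-- words -/
def wdS6 : List (List ℕ) := [[],[1],[1,0],[1,0,0],[1,0,1],[1,0,0,0],[1,0,0,1],[1,0,1,0],[1,0,0,0,0],[1,0,0,0,1],[1,0,0,1,0],[1,0,1,0,0],[1,0,1,0,1],[1,0,0,0,0,0],[1,0,0,0,0,1],[1,0,0,0,1,0],[1,0,0,1,0,0],[1,0,0,1,0,1],[1,0,1,0,0,0],[1,0,1,0,0,1],[1,0,1,0,1,0],[1,0,0,0,0,1,0],[1,0,0,0,1,0,0],[1,0,0,0,1,0,1],[1,0,0,1,0,0,0],[1,0,0,1,0,0,1],[1,0,0,1,0,1,0],[1,0,1,0,0,0,0],[1,0,1,0,0,0,1],[1,0,1,0,0,1,0],[1,0,1,0,1,0,0],[1,0,0,0,0,1,0,1],[1,0,0,0,1,0,0,1],[1,0,0,0,1,0,1,0],[1,0,0,1,0,0,0,1],[1,0,0,1,0,0,1,0],[1,0,0,1,0,1,0,0],[1,0,0,1,0,1,0,1],[1,0,1,0,0,0,0,0],[1,0,1,0,0,0,0,1],[1,0,1,0,0,0,1,0],[1,0,1,0,0,1,0,0],[1,0,1,0,0,1,0,1],[1,0,1,0,1,0,0,0],[1,0,1,0,1,0,0,1],[1,0,0,0,0,1,0,1,0],[1,0,0,0,1,0,0,1,0],[1,0,0,0,1,0,1,0,1],[1,0,0,1,0,0,0,1,0],[1,0,0,1,0,0,1,0,1],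[1,0,0,1,0,1,0,0,1],[1,0,0,1,0,1,0,1,0],[1,0,1,0,0,0,0,1,0],[1,0,1,0,0,0,1,0,0],[1,0,1,0,0,0,1,0,1],[1,0,1,0,0,1,0,0,0],[1,0,1,0,0,1,0,0,1],[1,0,1,0,0,1,0,1,0],[1,0,1,0,1,0,0,0,0],[1,0,1,0,1,0,0,0,1],[1,0,1,0,1,0,0,1,0],[1,0,0,0,0,1,0,1,0,0],[1,0,0,0,0,1,0,1,0,1],[1,0,0,0,1,0,0,1,0,0],[1,0,0,0,1,0,0,1,0,1],[1,0,0,1,0,0,0,1,0,0],[1,0,0,1,0,0,0,1,0,1],[1,0,0,1,0,0,1,0,1,0],[1,0,0,1,0,1,0,0,1,0],[1,0,1,0,0,0,0,1,0,1],[1,0,1,0,0,0,1,0,0,1],[1,0,1,0,0,0,1,0,1,0],[1,0,1,0,0,1,0,0,0,1],[1,0,1,0,0,1,0,0,1,0],[1,0,1,0,0,1,0,1,0,0],[1,0,1,0,0,1,0,1,0,1],[1,0,1,0,1,0,0,0,0,0],[1,0,1,0,1,0,0,0,0,1],[1,0,1,0,1,0,0,0,1,0],[1,0,1,0,1,0,0,1,0,0],[1,0,1,0,1,0,0,1,0,1],[1,0,0,0,0,1,0,1,0,0,0],[1,0,0,0,0,1,0,1,0,0,1],[1,0,0,0,1,0,0,1,0,0,1],[1,0,0,0,1,0,0,1,0,1,0],[1,0,0,1,0,0,0,1,0,0,1],[1,0,0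,1,0,0,0,1,0,1,0],[1,0,0,1,0,0,1,0,1,0,0],[1,0,0,1,0,0,1,0,1,0,1],[1,0,0,1,0,1,0,0,1,0,0],[1,0,0,1,0,1,0,0,1,0,1],[1,0,1,0,0,0,0,1,0,1,0],[1,0,1,0,0,0,1,0,1,0,1],[1,0,1,0,0,1,0,1,0,0,1],[1,0,1,0,0,1,0,1,0,1,0],[1,0,1,0,1,0,0,0,0,1,0],[1,0,1,0,1,0,0,0,1,0,0],[1,0,1,0,1,0,0,0,1,0,1],[1,0,1,0,1,0,0,1,0,0,0],[1,0,1,0,1,0,0,1,0,0,1],[1,0,0,0,0,1,0,1,0,0,0,1],[1,0,0,0,1,0,0,1,0,0,1,0],[1,0,0,0,1,0,0,1,0,1,0,0],[1,0,0,0,1,0,0,1,0,1,0,1],[1,0,0,1,0,0,0,1,0,0,1,0],[1,0,0,1,0,0,0,1,0,1,0,1],[1,0,0,1,0,0,1,0,1,0,0,1],[1,0,0,1,0,1,0,0,1,0,0,0],[1,0,0,1,0,1,0,0,1,0,1,0],[1,0,1,0,0,0,0,1,0,1,0,1],[1,0,1,0,1,0,0,0,0,1,0,1],[1,0,1,0,1,0,0,0,1,0,0,1],[1,0,1,0,1,0,0,1,0,0,0,1],[1,0,1,0,1,0,0,1,0,0,1,0],[1,0,0,0,1,0,0,1,0,0,1,0,1],[1,0,0,1,0,0,0,1,0,0,1,0,1],[1,0,0,1,0,1,0,0,1,0,0,0,1],[1,0,0,1,0,1,0,0,1,0,1,0,0],[1,0,1,0,1,0,0,1,0,0,1,0,1],[1,0,0,1,0,1,0,0,1,0,1,0,0,1]]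
/-- tree -/
def trS6 : List (ℕ × ℕ) := [(0,1),(1,0),(2,0),(2,1),(3,0),(3,1),(4,0),(5,0),(5,1),(6,0),(7,0),(7,1),(8,0),(8,1),(9,0),(10,0),(10,1),(11,0),(11,1),(12,0),(14,0),(15,0),(15,1),(16,0),(16,1),(17,0),(18,0),(18,1),(19,0),(20,0),(21,1),(22,1),(23,0),(24,1),(25,0),(26,0),(26,1),(27,0),(27,1),(28,0),(29,0),(29,1),(30,0),(30,1),(31,0),(32,0),(33,1),(34,0),(35,1),(36,1),(37,0),(39,0),(40,0),(40,1),(41,0),(41,1),(42,0),(43,0),(43,1),(44,0),(45,0),(45,1),(46,0),(46,1),(48,0),(48,1),(49,0),(50,0),(52,1),(53,1),(54,0),(55,1),(56,0),(57,0),(57,1),(58,0),(58,1),(59,0),(60,0),(60,1),(61,0),(61,1),(63,1),(64,0),(65,1),(66,0),(67,0),(67,1),(68,0),(68,1),(69,0),(71,1),(74,1),(75,0),(77,0),(78,0),(78,1),(79,0),(79,1),(81,1),(83,0),(84,0),(84,1),(85,0),(86,1),(87,1),(89,0),(90,0),(91,1),(95,1),(96,1),(98,1),(99,0),(101,1),(104,1),(107,1),(108,0),(113,1),(117,1)]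
/-- scans -/
def scS6 : List (ℕ × ℕ) := [(0,6),(0,1),(2,1),(3,1),(5,1),(7,1),(8,1),(10,1),(11,1),(15,1),(16,1),(18,1),(21,1),(22,1),(24,1),(26,1),(27,1),(29,1),(30,1),(33,1),(35,1),(36,1),(40,1),(41,1),(43,1),(45,1),(46,1),(48,1),(52,1),(53,1),(55,1),(57,1),(58,1),(60,1),(61,1),(63,1),(65,1),(67,1),(68,1),(71,1),(74,1),(78,1),(79,1),(81,1),(84,1),(86,1),(87,1),(91,1),(95,1),(96,1),(98,1),(101,1),(104,1),(107,1),(113,1),(117,1),(1,0),(4,0),(12,0),(0,5),(0,4),(1,4),(5,4),(8,4),(9,4),(0,2),(2,2),(3,2),(5,2),(7,2),(11,2),(15,2),(16,2),(13,1),(38,1),(76,1),(31,0),(2,5),(3,5),(4,5),(15,5),(16,5),(2,4),(10,4),(13,4),(18,4),(20,4),(28,4),(47,4),(60,4),(77,4),(80,4),(83,4),(85,4),(99,4),(112,4),(9,3),(16,3),(17,3),(85,3),(88,3),(18,2),(26,2),(27,2),(40,2),(41,2),(102,1),(39,0),(54,0),(24,4),(27,4),(34,4),(39,4),(40,4),(54,4),(67,4),(69,4),(72,4),(90,4),(93,4),(112,3)]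

theorem lenS6 : rlS6.length ≤ 6 := by decide

theorem tcS6 : check (tbl tbS6) (nth [] wdS6) (nth [] (rlS6 ++ [[0]])) rlS6.length 120 2 trS6 scS6 = true := by
  decide +kernel

theorem relS6 : ∀ w ∈ rlS6, ev (gT (finRotate 6) (swap (0 : Fin 6) 1)) w = 1 := by
  decide +kernel

theorem presS6 : Nonempty (PP rlS6 ≃* Perm (Fin 6)) :=
  iso_of_cert (x := finRotate 6) (y := swap (0 : Fin 6) 1) (s := 0) (k := 6) (m := 120) (k0 := 5) (k1 := 1)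
    (by decide) (by norm_num) (by decide) (by decide) tcS6 relS6
    (by
      have h := closure_cycle_adjacent_swap (isCycle_finRotate (n := 4)) support_finRotate 0
      have h2 : finRotate (4 + 2) 0 = 1 := by decide
      rw [h2] at h
      exact h)
    (by
      rw [Nat.card_eq_fintype_card, Fintype.card_perm, Fintype.card_fin]
      decide)

/-- relators -/
def rlS7 : List (List ℕ) := [[0,0,0,0,0,0,0],[1,1],[0,1,0,1,0,1,0,1,0,1,0,1],[1,0,0,0,0,0,0,1,0,1,0,0,0,0,0,0,1,0,1,0,0,0,0,0,0,1,0],[1,0,0,0,0,0,1,0,0,1,0,0,0,0,0,1,0,0],[1,0,0,0,0,1,0,0,0,1,0,0,0,0,1,0,0,0]]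
/-- table -/
def tbS7 : List (List ℕ) := [[0,1],[2,0],[3,4],[5,6],[7,2],[8,9],[10,3],[11,12],[13,14],[15,5],[16,17],[18,19],[20,7],[21,22],[23,8],[24,25],[26,27],[28,10],[29,30],[31,11],[32,33],[1,34],[35,13],[36,37],[38,39],[40,15],[41,42],[43,16],[44,45],[46,47],[48,18],[49,50],[51,52],[34,20],[53,21],[6,54],[9,55],[56,23],[14,57],[58,24],[59,60],[22,61],[62,26],[63,64],[65,66],[67,28],[68,69],[70,29],[71,72],[73,74],[75,31],[76,77],[78,32],[79,80],[81,35],[82,36],[19,83],[84,38],[27,85],[30,86],[87,40],[88,41],[39,89],[42,90],[91,43],[47,92],[93,44],[94,95],[4,96],[97,46],[98,99],[100,101],[102,48],[103,104],[105,49],[106,107],[108,109],[110,51],[111,112],[113,114],[115,53],[116,117],[118,119],[120,56],[121,122],[123,58],[124,59],[52,125],[126,127],[128,62],[129,63],[66,1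30],[131,65],[74,132],[77,133],[96,67],[80,68],[114,134],[17,135],[136,70],[25,137],[138,71],[139,140],[37,141],[142,73],[143,144],[145,146],[147,75],[148,149],[150,76],[151,152],[153,154],[155,78],[156,157],[158,79],[159,160],[161,162],[163,81],[164,165],[166,82],[167,168],[169,170],[171,84],[172,173],[174,175],[54,87],[157,176],[177,88],[178,179],[180,181],[182,91],[183,184],[185,93],[186,94],[187,97],[119,98],[162,188],[122,100],[165,189],[50,190],[191,102],[127,103],[170,192],[64,193],[194,105],[72,195],[196,106],[197,198],[12,199],[200,108],[201,202],[203,204],[205,110],[206,207],[208,111],[209,210],[211,212],[213,113],[214,215],[216,217],[218,115],[219,220],[221,116],[222,223],[224,225],[226,118],[227,228],[229,230],[55,120],[212,231],[232,121],[233,234],[235,236],[237,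123],[238,239],[240,124],[241,126],[217,242],[220,243],[244,128],[225,245],[246,129],[247,248],[249,250],[251,131],[252,253],[254,255],[256,257],[258,136],[259,138],[175,139],[230,260],[261,142],[181,143],[236,262],[184,145],[239,263],[112,264],[199,147],[117,148],[160,265],[215,266],[267,150],[45,268],[269,151],[270,271],[60,272],[273,153],[274,275],[276,277],[278,155],[33,279],[280,156],[281,282],[283,284],[285,158],[286,287],[288,159],[289,290],[291,292],[293,161],[294,295],[296,297],[57,163],[279,278],[298,164],[299,300],[301,302],[303,166],[304,305],[306,167],[307,169],[284,308],[287,309],[310,171],[292,311],[312,172],[313,314],[315,316],[317,174],[318,319],[320,321],[322,177],[323,178],[297,324],[325,180],[302,326],[305,327],[135,182],[282,328],[329,183],[330,331],[332,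333],[334,185],[335,336],[337,186],[338,339],[340,187],[341,342],[343,344],[83,191],[345,346],[347,194],[348,196],[255,197],[257,200],[321,201],[339,349],[173,203],[228,350],[295,351],[352,205],[179,206],[234,353],[300,354],[355,208],[107,356],[357,209],[358,224],[168,211],[223,359],[290,360],[361,213],[362,363],[364,214],[365,362],[95,366],[367,216],[368,369],[370,371],[61,218],[125,352],[372,219],[373,374],[375,376],[377,221],[378,379],[380,222],[360,381],[363,382],[383,226],[366,384],[385,227],[386,387],[388,389],[390,229],[391,392],[393,394],[395,232],[396,233],[371,397],[398,235],[376,399],[379,400],[137,237],[359,401],[402,238],[403,404],[405,406],[407,240],[408,409],[410,241],[411,412],[413,414],[85,244],[415,416],[417,246],[418,247],[394,249],[409,419],[369,420],[421,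251],[374,422],[423,252],[424,425],[426,427],[428,254],[429,430],[431,432],[433,256],[434,435],[436,437],[86,258],[438,439],[440,259],[432,441],[442,261],[443,444],[445,446],[447,267],[344,269],[414,270],[437,291],[346,273],[416,274],[439,448],[253,276],[319,449],[392,450],[342,280],[412,281],[435,451],[69,285],[452,283],[453,454],[455,456],[248,286],[314,457],[387,458],[459,288],[460,461],[462,289],[324,463],[397,464],[465,293],[466,467],[468,294],[469,460],[198,470],[471,296],[472,473],[474,298],[475,299],[456,466],[476,301],[458,477],[461,478],[141,303],[260,479],[480,304],[481,482],[483,484],[231,306],[210,485],[486,307],[487,452],[488,489],[89,310],[490,491],[492,312],[493,313],[450,315],[485,445],[454,494],[495,317],[457,496],[497,318],[498,499],[271,500],[501,320],[502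,453],[503,504],[90,322],[505,506],[507,323],[500,508],[509,325],[510,511],[512,513],[514,329],[489,330],[504,515],[491,332],[506,490],[473,516],[268,334],[451,517],[518,335],[519,520],[521,522],[384,337],[349,523],[524,338],[525,455],[526,527],[92,340],[528,529],[176,341],[523,530],[531,343],[532,533],[534,345],[527,535],[529,536],[190,347],[537,402],[538,348],[134,539],[540,355],[446,357],[513,358],[539,361],[101,395],[104,410],[541,364],[109,433],[542,365],[444,367],[511,368],[533,543],[149,377],[544,370],[545,546],[547,372],[548,373],[535,549],[99,383],[550,375],[551,552],[553,554],[555,378],[425,556],[499,557],[558,380],[559,560],[561,562],[563,564],[565,385],[566,386],[536,388],[567,568],[515,569],[570,390],[571,572],[573,391],[574,393],[430,575],[576,577],[578,579],[58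0,396],[581,423],[582,398],[583,544],[584,585],[562,403],[577,571],[564,405],[579,586],[546,587],[272,407],[588,408],[589,590],[520,591],[592,593],[594,411],[595,596],[508,413],[597,545],[598,415],[591,551],[593,599],[193,417],[600,548],[309,418],[601,541],[130,421],[585,424],[560,426],[575,602],[590,603],[470,428],[543,604],[605,429],[606,431],[607,608],[609,610],[448,611],[612,434],[613,614],[615,436],[616,438],[610,553],[611,617],[195,440],[618,542],[132,442],[242,443],[608,619],[620,621],[133,447],[265,622],[146,514],[154,534],[622,459],[204,492],[207,507],[623,462],[243,624],[245,512],[625,465],[250,626],[144,509],[596,468],[152,531],[627,469],[266,601],[628,471],[629,472],[621,578],[311,615],[630,474],[316,573],[631,475],[328,594],[632,476],[633,634],[635,636],[308,637]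,[638,480],[639,481],[640,592],[140,495],[641,483],[642,561],[382,618],[643,486],[389,644],[637,487],[401,558],[645,488],[646,647],[381,623],[648,649],[650,588],[651,652],[653,493],[654,497],[636,498],[464,583],[467,655],[656,501],[657,502],[479,570],[658,503],[659,563],[463,628],[333,505],[660,661],[552,662],[663,510],[664,665],[666,555],[619,518],[662,519],[634,521],[647,667],[668,666],[669,627],[530,524],[670,671],[655,525],[672,526],[673,674],[675,638],[644,528],[676,559],[263,677],[678,532],[626,574],[677,537],[674,679],[356,538],[264,540],[277,581],[624,547],[327,675],[680,550],[336,607],[351,595],[354,681],[400,668],[406,682],[420,663],[422,683],[684,565],[427,685],[686,566],[484,567],[441,613],[326,687],[399,688],[331,689],[404,690],[478,669],[691,576],[494,692],[496,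653],[693,580],[477,686],[694,582],[482,695],[517,696],[697,584],[698,646],[602,699],[700,589],[554,670],[557,701],[569,702],[572,703],[556,697],[704,597],[705,598],[687,632],[549,706],[683,600],[614,606],[699,605],[189,630],[192,643],[202,656],[671,609],[707,708],[709,704],[696,612],[188,625],[710,711],[617,616],[586,712],[712,620],[568,713],[708,629],[681,631],[649,633],[516,707],[701,635],[522,648],[665,639],[711,640],[713,641],[690,642],[419,714],[689,645],[587,709],[599,710],[714,650],[715,651],[603,660],[604,716],[717,654],[275,705],[692,657],[702,658],[682,659],[652,673],[661,700],[695,664],[350,684],[706,672],[353,693],[262,694],[685,676],[716,678],[688,680],[703,691],[449,717],[718,698],[679,715],[667,719],[719,718]]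
/-- words -/
def wdS7 : List (List ℕ) := [[],[1],[1,0],[1,0,0],[1,0,1],[1,0,0,0],[1,0,0,1],[1,0,1,0],[1,0,0,0,0],[1,0,0,0,1],[1,0,0,1,0],[1,0,1,0,0],[1,0,1,0,1],[1,0,0,0,0,0],[1,0,0,0,0,1],[1,0,0,0,1,0],[1,0,0,1,0,0],[1,0,0,1,0,1],[1,0,1,0,0,0],[1,0,1,0,0,1],[1,0,1,0,1,0],[1,0,0,0,0,0,0],[1,0,0,0,0,0,1],[1,0,0,0,0,1,0],[1,0,0,0,1,0,0],[1,0,0,0,1,0,1],[1,0,0,1,0,0,0],[1,0,0,1,0,0,1],[1,0,0,1,0,1,0],[1,0,1,0,0,0,0],[1,0,1,0,0,0,1],[1,0,1,0,0,1,0],[1,0,1,0,1,0,0],[1,0,1,0,1,0,1],[1,0,0,0,0,0,0,1],[1,0,0,0,0,0,1,0],[1,0,0,0,0,1,0,0],[1,0,0,0,0,1,0,1],[1,0,0,0,1,0,0,0],[1,0,0,0,1,0,0,1],[1,0,0,0,1,0,1,0],[1,0,0,1,0,0,0,0],[1,0,0,1,0,0,0,1],[1,0,0,1,0,0,1,0],[1,0,0,1,0,1,0,0],[1,0,0,1,0,1,0,1],[1,0,1,0,0,0,0,0],[1,0,1,0,0,0,0,1],[1,0,1,0,0,0,1,0],[1,0,1,0,0,1,0,0],[1,0,1,0,0,1,0,1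],[1,0,1,0,1,0,0,0],[1,0,1,0,1,0,0,1],[1,0,0,0,0,0,0,1,0],[1,0,0,0,0,0,1,0,1],[1,0,0,0,0,1,0,0,1],[1,0,0,0,0,1,0,1,0],[1,0,0,0,1,0,0,0,1],[1,0,0,0,1,0,0,1,0],[1,0,0,0,1,0,1,0,0],[1,0,0,0,1,0,1,0,1],[1,0,0,1,0,0,0,0,1],[1,0,0,1,0,0,0,1,0],[1,0,0,1,0,0,1,0,0],[1,0,0,1,0,0,1,0,1],[1,0,0,1,0,1,0,0,0],[1,0,0,1,0,1,0,0,1],[1,0,0,1,0,1,0,1,0],[1,0,1,0,0,0,0,0,0],[1,0,1,0,0,0,0,0,1],[1,0,1,0,0,0,0,1,0],[1,0,1,0,0,0,1,0,0],[1,0,1,0,0,0,1,0,1],[1,0,1,0,0,1,0,0,0],[1,0,1,0,0,1,0,0,1],[1,0,1,0,0,1,0,1,0],[1,0,1,0,1,0,0,0,0],[1,0,1,0,1,0,0,0,1],[1,0,1,0,1,0,0,1,0],[1,0,0,0,0,0,0,1,0,0],[1,0,0,0,0,0,0,1,0,1],[1,0,0,0,0,0,1,0,1,0],[1,0,0,0,0,1,0,0,1,0],[1,0,0,0,0,1,0,1,0,1],[1,0,0,0,1,0,0,0,1,0],[1,0,0,0,1,0,0,1,0,1],[1,0,0,0,1,0,1,0,0,1],[1,0,0,0,1,0,1,0,1,0],[1,0,0,1,0,0,0,0,1,0],[1,0,0,1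,0,0,0,1,0,1],[1,0,0,1,0,0,1,0,0,1],[1,0,0,1,0,0,1,0,1,0],[1,0,0,1,0,1,0,0,0,1],[1,0,0,1,0,1,0,0,1,0],[1,0,0,1,0,1,0,1,0,0],[1,0,0,1,0,1,0,1,0,1],[1,0,1,0,0,0,0,0,0,1],[1,0,1,0,0,0,0,0,1,0],[1,0,1,0,0,0,0,1,0,0],[1,0,1,0,0,0,0,1,0,1],[1,0,1,0,0,0,1,0,0,0],[1,0,1,0,0,0,1,0,0,1],[1,0,1,0,0,0,1,0,1,0],[1,0,1,0,0,1,0,0,0,0],[1,0,1,0,0,1,0,0,0,1],[1,0,1,0,0,1,0,0,1,0],[1,0,1,0,0,1,0,1,0,0],[1,0,1,0,0,1,0,1,0,1],[1,0,1,0,1,0,0,0,0,0],[1,0,1,0,1,0,0,0,0,1],[1,0,1,0,1,0,0,0,1,0],[1,0,1,0,1,0,0,1,0,0],[1,0,1,0,1,0,0,1,0,1],[1,0,0,0,0,0,0,1,0,0,0],[1,0,0,0,0,0,0,1,0,0,1],[1,0,0,0,0,0,0,1,0,1,0],[1,0,0,0,0,0,1,0,1,0,0],[1,0,0,0,0,0,1,0,1,0,1],[1,0,0,0,0,1,0,0,1,0,0],[1,0,0,0,0,1,0,0,1,0,1],[1,0,0,0,0,1,0,1,0,1,0],[1,0,0,0,1,0,0,0,1,0,0],[1,0,0,0,1,0,0,0,1,0,1],[1,0,0,0,1,0,0,1,0,1,0],[1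,0,0,0,1,0,1,0,0,1,0],[1,0,0,0,1,0,1,0,1,0,1],[1,0,0,1,0,0,0,0,1,0,0],[1,0,0,1,0,0,0,0,1,0,1],[1,0,0,1,0,0,0,1,0,1,0],[1,0,0,1,0,0,1,0,0,1,0],[1,0,0,1,0,0,1,0,1,0,1],[1,0,0,1,0,1,0,0,0,1,0],[1,0,0,1,0,1,0,0,1,0,1],[1,0,0,1,0,1,0,1,0,0,1],[1,0,1,0,0,0,0,0,1,0,1],[1,0,1,0,0,0,0,1,0,0,1],[1,0,1,0,0,0,0,1,0,1,0],[1,0,1,0,0,0,1,0,0,0,1],[1,0,1,0,0,0,1,0,0,1,0],[1,0,1,0,0,0,1,0,1,0,0],[1,0,1,0,0,0,1,0,1,0,1],[1,0,1,0,0,1,0,0,0,0,1],[1,0,1,0,0,1,0,0,0,1,0],[1,0,1,0,0,1,0,0,1,0,0],[1,0,1,0,0,1,0,0,1,0,1],[1,0,1,0,0,1,0,1,0,0,0],[1,0,1,0,0,1,0,1,0,0,1],[1,0,1,0,0,1,0,1,0,1,0],[1,0,1,0,1,0,0,0,0,0,0],[1,0,1,0,1,0,0,0,0,0,1],[1,0,1,0,1,0,0,0,0,1,0],[1,0,1,0,1,0,0,0,1,0,0],[1,0,1,0,1,0,0,0,1,0,1],[1,0,1,0,1,0,0,1,0,0,0],[1,0,1,0,1,0,0,1,0,0,1],[1,0,1,0,1,0,0,1,0,1,0],[1,0,0,0,0,0,0,1,0,0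,0,0],[1,0,0,0,0,0,0,1,0,0,0,1],[1,0,0,0,0,0,0,1,0,0,1,0],[1,0,0,0,0,0,0,1,0,1,0,0],[1,0,0,0,0,0,0,1,0,1,0,1],[1,0,0,0,0,0,1,0,1,0,0,0],[1,0,0,0,0,0,1,0,1,0,0,1],[1,0,0,0,0,0,1,0,1,0,1,0],[1,0,0,0,0,1,0,0,1,0,0,0],[1,0,0,0,0,1,0,0,1,0,0,1],[1,0,0,0,0,1,0,0,1,0,1,0],[1,0,0,0,0,1,0,1,0,1,0,0],[1,0,0,0,0,1,0,1,0,1,0,1],[1,0,0,0,1,0,0,0,1,0,0,0],[1,0,0,0,1,0,0,0,1,0,0,1],[1,0,0,0,1,0,0,0,1,0,1,0],[1,0,0,0,1,0,0,1,0,1,0,0],[1,0,0,0,1,0,0,1,0,1,0,1],[1,0,0,0,1,0,1,0,0,1,0,0],[1,0,0,0,1,0,1,0,0,1,0,1],[1,0,0,1,0,0,0,0,1,0,0,1],[1,0,0,1,0,0,0,0,1,0,1,0],[1,0,0,1,0,0,0,1,0,1,0,0],[1,0,0,1,0,0,0,1,0,1,0,1],[1,0,0,1,0,0,1,0,0,1,0,0],[1,0,0,1,0,0,1,0,0,1,0,1],[1,0,0,1,0,0,1,0,1,0,1,0],[1,0,0,1,0,1,0,0,0,1,0,0],[1,0,0,1,0,1,0,0,0,1,0,1],[1,0,0,1,0,1,0,0,1,0,1,0],[1,0,0,1,0,1,0,1,0,0,1,0],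[1,0,1,0,0,0,0,0,1,0,1,0],[1,0,1,0,0,0,0,1,0,1,0,1],[1,0,1,0,0,0,1,0,0,1,0,1],[1,0,1,0,0,0,1,0,1,0,0,1],[1,0,1,0,0,0,1,0,1,0,1,0],[1,0,1,0,0,1,0,0,0,1,0,1],[1,0,1,0,0,1,0,0,1,0,0,1],[1,0,1,0,0,1,0,0,1,0,1,0],[1,0,1,0,0,1,0,1,0,0,0,1],[1,0,1,0,0,1,0,1,0,0,1,0],[1,0,1,0,0,1,0,1,0,1,0,0],[1,0,1,0,0,1,0,1,0,1,0,1],[1,0,1,0,1,0,0,0,0,0,0,1],[1,0,1,0,1,0,0,0,0,0,1,0],[1,0,1,0,1,0,0,0,0,1,0,0],[1,0,1,0,1,0,0,0,0,1,0,1],[1,0,1,0,1,0,0,0,1,0,0,0],[1,0,1,0,1,0,0,0,1,0,0,1],[1,0,1,0,1,0,0,0,1,0,1,0],[1,0,1,0,1,0,0,1,0,0,0,0],[1,0,1,0,1,0,0,1,0,0,0,1],[1,0,1,0,1,0,0,1,0,0,1,0],[1,0,1,0,1,0,0,1,0,1,0,0],[1,0,1,0,1,0,0,1,0,1,0,1],[1,0,0,0,0,0,0,1,0,0,0,0,0],[1,0,0,0,0,0,0,1,0,0,0,0,1],[1,0,0,0,0,0,0,1,0,0,0,1,0],[1,0,0,0,0,0,0,1,0,0,1,0,0],[1,0,0,0,0,0,0,1,0,0,1,0,1],[1,0,0,0,0,0,0,1,0,1,0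,0,0],[1,0,0,0,0,0,0,1,0,1,0,0,1],[1,0,0,0,0,0,0,1,0,1,0,1,0],[1,0,0,0,0,0,1,0,1,0,0,0,0],[1,0,0,0,0,0,1,0,1,0,0,0,1],[1,0,0,0,0,0,1,0,1,0,0,1,0],[1,0,0,0,0,0,1,0,1,0,1,0,0],[1,0,0,0,0,0,1,0,1,0,1,0,1],[1,0,0,0,0,1,0,0,1,0,0,0,0],[1,0,0,0,0,1,0,0,1,0,0,0,1],[1,0,0,0,0,1,0,0,1,0,0,1,0],[1,0,0,0,0,1,0,0,1,0,1,0,0],[1,0,0,0,0,1,0,0,1,0,1,0,1],[1,0,0,0,0,1,0,1,0,1,0,0,0],[1,0,0,0,0,1,0,1,0,1,0,0,1],[1,0,0,0,1,0,0,0,1,0,0,0,1],[1,0,0,0,1,0,0,0,1,0,0,1,0],[1,0,0,0,1,0,0,0,1,0,1,0,0],[1,0,0,0,1,0,0,0,1,0,1,0,1],[1,0,0,0,1,0,0,1,0,1,0,0,0],[1,0,0,0,1,0,0,1,0,1,0,0,1],[1,0,0,0,1,0,0,1,0,1,0,1,0],[1,0,0,0,1,0,1,0,0,1,0,0,0],[1,0,0,0,1,0,1,0,0,1,0,0,1],[1,0,0,0,1,0,1,0,0,1,0,1,0],[1,0,0,1,0,0,0,0,1,0,0,1,0],[1,0,0,1,0,0,0,0,1,0,1,0,1],[1,0,0,1,0,0,0,1,0,1,0,0,1],[1,0,0,1,0,0,0,1,0,1,0,1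,0],[1,0,0,1,0,0,1,0,0,1,0,0,1],[1,0,0,1,0,0,1,0,0,1,0,1,0],[1,0,0,1,0,0,1,0,1,0,1,0,0],[1,0,0,1,0,0,1,0,1,0,1,0,1],[1,0,0,1,0,1,0,0,0,1,0,0,0],[1,0,0,1,0,1,0,0,0,1,0,0,1],[1,0,0,1,0,1,0,0,0,1,0,1,0],[1,0,0,1,0,1,0,0,1,0,1,0,0],[1,0,0,1,0,1,0,0,1,0,1,0,1],[1,0,0,1,0,1,0,1,0,0,1,0,0],[1,0,0,1,0,1,0,1,0,0,1,0,1],[1,0,1,0,0,0,0,0,1,0,1,0,0],[1,0,1,0,0,0,0,0,1,0,1,0,1],[1,0,1,0,0,0,0,1,0,1,0,1,0],[1,0,1,0,0,0,1,0,0,1,0,1,0],[1,0,1,0,0,0,1,0,1,0,1,0,1],[1,0,1,0,0,1,0,0,0,1,0,1,0],[1,0,1,0,0,1,0,0,1,0,1,0,1],[1,0,1,0,0,1,0,1,0,0,1,0,1],[1,0,1,0,0,1,0,1,0,1,0,0,1],[1,0,1,0,1,0,0,0,0,0,1,0,1],[1,0,1,0,1,0,0,0,0,1,0,0,1],[1,0,1,0,1,0,0,0,0,1,0,1,0],[1,0,1,0,1,0,0,0,1,0,0,0,1],[1,0,1,0,1,0,0,0,1,0,0,1,0],[1,0,1,0,1,0,0,0,1,0,1,0,0],[1,0,1,0,1,0,0,0,1,0,1,0,1],[1,0,1,0,1,0,0,1,0,0,0,0,1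],[1,0,1,0,1,0,0,1,0,0,0,1,0],[1,0,1,0,1,0,0,1,0,0,1,0,0],[1,0,1,0,1,0,0,1,0,0,1,0,1],[1,0,1,0,1,0,0,1,0,1,0,0,0],[1,0,1,0,1,0,0,1,0,1,0,0,1],[1,0,1,0,1,0,0,1,0,1,0,1,0],[1,0,0,0,0,0,0,1,0,0,0,0,0,1],[1,0,0,0,0,0,0,1,0,0,0,0,1,0],[1,0,0,0,0,0,0,1,0,0,0,1,0,0],[1,0,0,0,0,0,0,1,0,0,0,1,0,1],[1,0,0,0,0,0,0,1,0,0,1,0,0,0],[1,0,0,0,0,0,0,1,0,0,1,0,0,1],[1,0,0,0,0,0,0,1,0,0,1,0,1,0],[1,0,0,0,0,0,0,1,0,1,0,0,0,0],[1,0,0,0,0,0,0,1,0,1,0,0,0,1],[1,0,0,0,0,0,0,1,0,1,0,0,1,0],[1,0,0,0,0,0,0,1,0,1,0,1,0,0],[1,0,0,0,0,0,0,1,0,1,0,1,0,1],[1,0,0,0,0,0,1,0,1,0,0,0,0,0],[1,0,0,0,0,0,1,0,1,0,0,0,0,1],[1,0,0,0,0,0,1,0,1,0,0,0,1,0],[1,0,0,0,0,0,1,0,1,0,0,1,0,0],[1,0,0,0,0,0,1,0,1,0,0,1,0,1],[1,0,0,0,0,0,1,0,1,0,1,0,0,0],[1,0,0,0,0,0,1,0,1,0,1,0,0,1],[1,0,0,0,0,1,0,0,1,0,0,0,1,0],[1,0,0,0,0,1,0,0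,1,0,0,1,0,0],[1,0,0,0,0,1,0,0,1,0,0,1,0,1],[1,0,0,0,0,1,0,0,1,0,1,0,0,0],[1,0,0,0,0,1,0,0,1,0,1,0,0,1],[1,0,0,0,0,1,0,0,1,0,1,0,1,0],[1,0,0,0,0,1,0,1,0,1,0,0,0,0],[1,0,0,0,0,1,0,1,0,1,0,0,0,1],[1,0,0,0,0,1,0,1,0,1,0,0,1,0],[1,0,0,0,1,0,0,0,1,0,0,0,1,0],[1,0,0,0,1,0,0,0,1,0,0,1,0,1],[1,0,0,0,1,0,0,0,1,0,1,0,0,1],[1,0,0,0,1,0,0,0,1,0,1,0,1,0],[1,0,0,0,1,0,0,1,0,1,0,0,0,1],[1,0,0,0,1,0,0,1,0,1,0,0,1,0],[1,0,0,0,1,0,0,1,0,1,0,1,0,0],[1,0,0,0,1,0,0,1,0,1,0,1,0,1],[1,0,0,0,1,0,1,0,0,1,0,0,0,0],[1,0,0,0,1,0,1,0,0,1,0,0,0,1],[1,0,0,0,1,0,1,0,0,1,0,0,1,0],[1,0,0,0,1,0,1,0,0,1,0,1,0,0],[1,0,0,0,1,0,1,0,0,1,0,1,0,1],[1,0,0,1,0,0,0,0,1,0,0,1,0,0],[1,0,0,1,0,0,0,0,1,0,0,1,0,1],[1,0,0,1,0,0,0,0,1,0,1,0,1,0],[1,0,0,1,0,0,0,1,0,1,0,0,1,0],[1,0,0,1,0,0,0,1,0,1,0,1,0,1],[1,0,0,1,0,0,1,0,0,1,0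,0,1,0],[1,0,0,1,0,0,1,0,0,1,0,1,0,1],[1,0,0,1,0,0,1,0,1,0,1,0,0,1],[1,0,0,1,0,1,0,0,0,1,0,0,0,1],[1,0,0,1,0,1,0,0,0,1,0,0,1,0],[1,0,0,1,0,1,0,0,0,1,0,1,0,0],[1,0,0,1,0,1,0,0,0,1,0,1,0,1],[1,0,0,1,0,1,0,0,1,0,1,0,0,0],[1,0,0,1,0,1,0,0,1,0,1,0,0,1],[1,0,0,1,0,1,0,0,1,0,1,0,1,0],[1,0,0,1,0,1,0,1,0,0,1,0,0,0],[1,0,0,1,0,1,0,1,0,0,1,0,0,1],[1,0,0,1,0,1,0,1,0,0,1,0,1,0],[1,0,1,0,0,0,0,0,1,0,1,0,0,0],[1,0,1,0,0,0,0,0,1,0,1,0,0,1],[1,0,1,0,0,0,0,0,1,0,1,0,1,0],[1,0,1,0,0,0,0,1,0,1,0,1,0,0],[1,0,1,0,0,0,0,1,0,1,0,1,0,1],[1,0,1,0,0,0,1,0,0,1,0,1,0,0],[1,0,1,0,0,0,1,0,0,1,0,1,0,1],[1,0,1,0,0,1,0,0,0,1,0,1,0,0],[1,0,1,0,0,1,0,0,0,1,0,1,0,1],[1,0,1,0,0,1,0,0,1,0,1,0,1,0],[1,0,1,0,0,1,0,1,0,0,1,0,1,0],[1,0,1,0,1,0,0,0,0,1,0,1,0,1],[1,0,1,0,1,0,0,0,1,0,0,1,0,1],[1,0,1,0,1,0,0,0,1,0,1,0,0,1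],[1,0,1,0,1,0,0,0,1,0,1,0,1,0],[1,0,1,0,1,0,0,1,0,0,0,1,0,1],[1,0,1,0,1,0,0,1,0,0,1,0,0,1],[1,0,1,0,1,0,0,1,0,0,1,0,1,0],[1,0,1,0,1,0,0,1,0,1,0,0,0,1],[1,0,1,0,1,0,0,1,0,1,0,0,1,0],[1,0,1,0,1,0,0,1,0,1,0,1,0,0],[1,0,0,0,0,0,0,1,0,0,0,0,1,0,1],[1,0,0,0,0,0,0,1,0,0,0,1,0,0,1],[1,0,0,0,0,0,0,1,0,0,0,1,0,1,0],[1,0,0,0,0,0,0,1,0,0,1,0,0,0,0],[1,0,0,0,0,0,0,1,0,0,1,0,0,0,1],[1,0,0,0,0,0,0,1,0,0,1,0,0,1,0],[1,0,0,0,0,0,0,1,0,0,1,0,1,0,0],[1,0,0,0,0,0,0,1,0,1,0,0,0,0,1],[1,0,0,0,0,0,0,1,0,1,0,0,0,1,0],[1,0,0,0,0,0,0,1,0,1,0,0,1,0,0],[1,0,0,0,0,0,0,1,0,1,0,0,1,0,1],[1,0,0,0,0,0,0,1,0,1,0,1,0,0,0],[1,0,0,0,0,0,0,1,0,1,0,1,0,0,1],[1,0,0,0,0,0,1,0,1,0,0,0,0,1,0],[1,0,0,0,0,0,1,0,1,0,0,0,1,0,0],[1,0,0,0,0,0,1,0,1,0,0,0,1,0,1],[1,0,0,0,0,0,1,0,1,0,0,1,0,0,0],[1,0,0,0,0,0,1,0,1,0,0,1,0,0,1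],[1,0,0,0,0,0,1,0,1,0,0,1,0,1,0],[1,0,0,0,0,0,1,0,1,0,1,0,0,0,0],[1,0,0,0,0,0,1,0,1,0,1,0,0,0,1],[1,0,0,0,0,0,1,0,1,0,1,0,0,1,0],[1,0,0,0,0,1,0,0,1,0,0,0,1,0,1],[1,0,0,0,0,1,0,0,1,0,0,1,0,0,1],[1,0,0,0,0,1,0,0,1,0,0,1,0,1,0],[1,0,0,0,0,1,0,0,1,0,1,0,0,0,1],[1,0,0,0,0,1,0,0,1,0,1,0,0,1,0],[1,0,0,0,0,1,0,0,1,0,1,0,1,0,0],[1,0,0,0,0,1,0,0,1,0,1,0,1,0,1],[1,0,0,0,0,1,0,1,0,1,0,0,0,0,0],[1,0,0,0,0,1,0,1,0,1,0,0,0,0,1],[1,0,0,0,0,1,0,1,0,1,0,0,0,1,0],[1,0,0,0,0,1,0,1,0,1,0,0,1,0,0],[1,0,0,0,0,1,0,1,0,1,0,0,1,0,1],[1,0,0,0,1,0,0,0,1,0,0,0,1,0,0],[1,0,0,0,1,0,0,0,1,0,0,0,1,0,1],[1,0,0,0,1,0,0,0,1,0,0,1,0,1,0],[1,0,0,0,1,0,0,0,1,0,1,0,0,1,0],[1,0,0,0,1,0,0,0,1,0,1,0,1,0,1],[1,0,0,0,1,0,0,1,0,1,0,0,0,1,0],[1,0,0,0,1,0,0,1,0,1,0,0,1,0,1],[1,0,0,0,1,0,0,1,0,1,0,1,0,0,1],[1,0,0,0,1,0,1,0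,0,1,0,0,0,0,1],[1,0,0,0,1,0,1,0,0,1,0,0,0,1,0],[1,0,0,0,1,0,1,0,0,1,0,0,1,0,0],[1,0,0,0,1,0,1,0,0,1,0,0,1,0,1],[1,0,0,0,1,0,1,0,0,1,0,1,0,0,0],[1,0,0,0,1,0,1,0,0,1,0,1,0,0,1],[1,0,0,0,1,0,1,0,0,1,0,1,0,1,0],[1,0,0,1,0,0,0,0,1,0,0,1,0,0,0],[1,0,0,1,0,0,0,0,1,0,0,1,0,0,1],[1,0,0,1,0,0,0,0,1,0,0,1,0,1,0],[1,0,0,1,0,0,0,0,1,0,1,0,1,0,0],[1,0,0,1,0,0,0,0,1,0,1,0,1,0,1],[1,0,0,1,0,0,0,1,0,1,0,0,1,0,0],[1,0,0,1,0,0,0,1,0,1,0,0,1,0,1],[1,0,0,1,0,0,1,0,0,1,0,0,1,0,0],[1,0,0,1,0,0,1,0,0,1,0,0,1,0,1],[1,0,0,1,0,0,1,0,0,1,0,1,0,1,0],[1,0,0,1,0,0,1,0,1,0,1,0,0,1,0],[1,0,0,1,0,1,0,0,0,1,0,0,1,0,1],[1,0,0,1,0,1,0,0,0,1,0,1,0,0,1],[1,0,0,1,0,1,0,0,0,1,0,1,0,1,0],[1,0,0,1,0,1,0,0,1,0,1,0,0,0,1],[1,0,0,1,0,1,0,0,1,0,1,0,0,1,0],[1,0,0,1,0,1,0,0,1,0,1,0,1,0,0],[1,0,0,1,0,1,0,0,1,0,1,0,1,0,1],[1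,0,0,1,0,1,0,1,0,0,1,0,0,0,0],[1,0,0,1,0,1,0,1,0,0,1,0,0,0,1],[1,0,0,1,0,1,0,1,0,0,1,0,0,1,0],[1,0,0,1,0,1,0,1,0,0,1,0,1,0,0],[1,0,0,1,0,1,0,1,0,0,1,0,1,0,1],[1,0,1,0,0,0,0,0,1,0,1,0,0,0,0],[1,0,1,0,0,0,0,0,1,0,1,0,0,0,1],[1,0,1,0,0,0,0,0,1,0,1,0,0,1,0],[1,0,1,0,0,0,0,0,1,0,1,0,1,0,0],[1,0,1,0,0,0,0,0,1,0,1,0,1,0,1],[1,0,1,0,0,0,0,1,0,1,0,1,0,0,0],[1,0,1,0,0,0,0,1,0,1,0,1,0,0,1],[1,0,1,0,0,0,1,0,0,1,0,1,0,0,0],[1,0,1,0,0,0,1,0,0,1,0,1,0,0,1],[1,0,1,0,0,0,1,0,0,1,0,1,0,1,0],[1,0,1,0,0,1,0,0,0,1,0,1,0,0,1],[1,0,1,0,0,1,0,0,0,1,0,1,0,1,0],[1,0,1,0,0,1,0,0,1,0,1,0,1,0,0],[1,0,1,0,0,1,0,0,1,0,1,0,1,0,1],[1,0,1,0,0,1,0,1,0,0,1,0,1,0,0],[1,0,1,0,0,1,0,1,0,0,1,0,1,0,1],[1,0,1,0,1,0,0,0,0,1,0,1,0,1,0],[1,0,1,0,1,0,0,1,0,0,1,0,1,0,1],[1,0,1,0,1,0,0,1,0,1,0,0,1,0,1],[1,0,1,0,1,0,0,1,0,1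,0,1,0,0,1],[1,0,0,0,0,0,0,1,0,0,0,1,0,1,0,1],[1,0,0,0,0,0,0,1,0,0,1,0,0,0,1,0],[1,0,0,0,0,0,0,1,0,0,1,0,0,1,0,0],[1,0,0,0,0,0,0,1,0,0,1,0,0,1,0,1],[1,0,0,0,0,0,0,1,0,0,1,0,1,0,0,0],[1,0,0,0,0,0,0,1,0,0,1,0,1,0,0,1],[1,0,0,0,0,0,0,1,0,1,0,0,0,1,0,1],[1,0,0,0,0,0,0,1,0,1,0,0,1,0,0,1],[1,0,0,0,0,0,0,1,0,1,0,0,1,0,1,0],[1,0,0,0,0,0,0,1,0,1,0,1,0,0,0,0],[1,0,0,0,0,0,0,1,0,1,0,1,0,0,0,1],[1,0,0,0,0,0,0,1,0,1,0,1,0,0,1,0],[1,0,0,0,0,0,1,0,1,0,0,0,0,1,0,1],[1,0,0,0,0,0,1,0,1,0,0,0,1,0,0,1],[1,0,0,0,0,0,1,0,1,0,0,0,1,0,1,0],[1,0,0,0,0,0,1,0,1,0,0,1,0,0,0,0],[1,0,0,0,0,0,1,0,1,0,0,1,0,0,0,1],[1,0,0,0,0,0,1,0,1,0,0,1,0,0,1,0],[1,0,0,0,0,0,1,0,1,0,0,1,0,1,0,0],[1,0,0,0,0,0,1,0,1,0,1,0,0,0,0,1],[1,0,0,0,0,0,1,0,1,0,1,0,0,0,1,0],[1,0,0,0,0,0,1,0,1,0,1,0,0,1,0,0],[1,0,0,0,0,0,1,0,1,0,1,0,0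,1,0,1],[1,0,0,0,0,1,0,0,1,0,0,0,1,0,1,0],[1,0,0,0,0,1,0,0,1,0,0,1,0,0,1,0],[1,0,0,0,0,1,0,0,1,0,1,0,0,0,1,0],[1,0,0,0,0,1,0,0,1,0,1,0,0,1,0,1],[1,0,0,0,0,1,0,0,1,0,1,0,1,0,0,1],[1,0,0,0,0,1,0,1,0,1,0,0,0,0,0,1],[1,0,0,0,0,1,0,1,0,1,0,0,0,0,1,0],[1,0,0,0,0,1,0,1,0,1,0,0,0,1,0,0],[1,0,0,0,0,1,0,1,0,1,0,0,0,1,0,1],[1,0,0,0,0,1,0,1,0,1,0,0,1,0,0,0],[1,0,0,0,0,1,0,1,0,1,0,0,1,0,0,1],[1,0,0,0,1,0,0,0,1,0,0,0,1,0,0,1],[1,0,0,0,1,0,0,0,1,0,0,0,1,0,1,0],[1,0,0,0,1,0,0,0,1,0,0,1,0,1,0,0],[1,0,0,0,1,0,0,0,1,0,1,0,0,1,0,0],[1,0,0,0,1,0,0,0,1,0,1,0,0,1,0,1],[1,0,0,0,1,0,0,1,0,1,0,0,0,1,0,0],[1,0,0,0,1,0,0,1,0,1,0,0,0,1,0,1],[1,0,0,0,1,0,0,1,0,1,0,0,1,0,1,0],[1,0,0,0,1,0,0,1,0,1,0,1,0,0,1,0],[1,0,0,0,1,0,1,0,0,1,0,0,1,0,0,1],[1,0,0,0,1,0,1,0,0,1,0,0,1,0,1,0],[1,0,0,0,1,0,1,0,0,1,0,1,0,0,0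,1],[1,0,0,0,1,0,1,0,0,1,0,1,0,0,1,0],[1,0,0,0,1,0,1,0,0,1,0,1,0,1,0,0],[1,0,0,0,1,0,1,0,0,1,0,1,0,1,0,1],[1,0,0,1,0,0,0,0,1,0,0,1,0,0,0,1],[1,0,0,1,0,0,0,0,1,0,0,1,0,0,1,0],[1,0,0,1,0,0,0,0,1,0,0,1,0,1,0,0],[1,0,0,1,0,0,0,0,1,0,1,0,1,0,0,0],[1,0,0,1,0,0,0,0,1,0,1,0,1,0,0,1],[1,0,0,1,0,0,0,1,0,1,0,0,1,0,0,0],[1,0,0,1,0,0,0,1,0,1,0,0,1,0,0,1],[1,0,0,1,0,0,0,1,0,1,0,0,1,0,1,0],[1,0,0,1,0,0,1,0,0,1,0,0,1,0,0,1],[1,0,0,1,0,0,1,0,0,1,0,0,1,0,1,0],[1,0,0,1,0,0,1,0,0,1,0,1,0,1,0,0],[1,0,0,1,0,0,1,0,0,1,0,1,0,1,0,1],[1,0,0,1,0,0,1,0,1,0,1,0,0,1,0,0],[1,0,0,1,0,0,1,0,1,0,1,0,0,1,0,1],[1,0,0,1,0,1,0,0,0,1,0,0,1,0,1,0],[1,0,0,1,0,1,0,0,0,1,0,1,0,1,0,1],[1,0,0,1,0,1,0,0,1,0,1,0,1,0,0,1],[1,0,0,1,0,1,0,1,0,0,1,0,0,0,0,1],[1,0,0,1,0,1,0,1,0,0,1,0,0,0,1,0],[1,0,0,1,0,1,0,1,0,0,1,0,0,1,0,0],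[1,0,0,1,0,1,0,1,0,0,1,0,0,1,0,1],[1,0,0,1,0,1,0,1,0,0,1,0,1,0,0,0],[1,0,0,1,0,1,0,1,0,0,1,0,1,0,0,1],[1,0,1,0,0,0,0,0,1,0,1,0,0,0,0,1],[1,0,1,0,0,0,0,0,1,0,1,0,0,0,1,0],[1,0,1,0,0,0,0,0,1,0,1,0,0,1,0,0],[1,0,1,0,0,0,0,0,1,0,1,0,1,0,0,0],[1,0,1,0,0,0,0,0,1,0,1,0,1,0,0,1],[1,0,1,0,0,0,0,1,0,1,0,1,0,0,0,0],[1,0,1,0,0,0,0,1,0,1,0,1,0,0,0,1],[1,0,1,0,0,0,1,0,0,1,0,1,0,0,0,1],[1,0,1,0,0,0,1,0,0,1,0,1,0,0,1,0],[1,0,1,0,0,0,1,0,0,1,0,1,0,1,0,0],[1,0,1,0,0,0,1,0,0,1,0,1,0,1,0,1],[1,0,1,0,0,1,0,0,0,1,0,1,0,0,1,0],[1,0,1,0,0,1,0,0,0,1,0,1,0,1,0,1],[1,0,1,0,0,1,0,0,1,0,1,0,1,0,0,1],[1,0,1,0,0,1,0,1,0,0,1,0,1,0,0,0],[1,0,1,0,0,1,0,1,0,0,1,0,1,0,1,0],[1,0,1,0,1,0,0,0,0,1,0,1,0,1,0,1],[1,0,1,0,1,0,0,1,0,0,1,0,1,0,1,0],[1,0,0,0,0,0,0,1,0,0,1,0,0,1,0,1,0],[1,0,0,0,0,0,0,1,0,0,1,0,1,0,0,1,0],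[1,0,0,0,0,0,0,1,0,1,0,0,1,0,1,0,1],[1,0,0,0,0,0,0,1,0,1,0,1,0,0,0,1,0],[1,0,0,0,0,0,0,1,0,1,0,1,0,0,1,0,0],[1,0,0,0,0,0,0,1,0,1,0,1,0,0,1,0,1],[1,0,0,0,0,0,1,0,1,0,0,0,0,1,0,1,0],[1,0,0,0,0,0,1,0,1,0,0,0,1,0,0,1,0],[1,0,0,0,0,0,1,0,1,0,0,0,1,0,1,0,1],[1,0,0,0,0,0,1,0,1,0,0,1,0,0,0,1,0],[1,0,0,0,0,0,1,0,1,0,0,1,0,0,1,0,0],[1,0,0,0,0,0,1,0,1,0,0,1,0,0,1,0,1],[1,0,0,0,0,0,1,0,1,0,0,1,0,1,0,0,0],[1,0,0,0,0,0,1,0,1,0,0,1,0,1,0,0,1],[1,0,0,0,0,0,1,0,1,0,1,0,0,0,0,1,0],[1,0,0,0,0,0,1,0,1,0,1,0,0,0,1,0,1],[1,0,0,0,0,0,1,0,1,0,1,0,0,1,0,0,1],[1,0,0,0,0,0,1,0,1,0,1,0,0,1,0,1,0],[1,0,0,0,0,1,0,0,1,0,0,0,1,0,1,0,0],[1,0,0,0,0,1,0,0,1,0,0,0,1,0,1,0,1],[1,0,0,0,0,1,0,0,1,0,0,1,0,0,1,0,0],[1,0,0,0,0,1,0,0,1,0,0,1,0,0,1,0,1],[1,0,0,0,0,1,0,0,1,0,1,0,0,0,1,0,0],[1,0,0,0,0,1,0,0,1,0,1,0,0,0,1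,0,1],[1,0,0,0,0,1,0,0,1,0,1,0,0,1,0,1,0],[1,0,0,0,0,1,0,0,1,0,1,0,1,0,0,1,0],[1,0,0,0,0,1,0,1,0,1,0,0,0,0,1,0,0],[1,0,0,0,0,1,0,1,0,1,0,0,0,0,1,0,1],[1,0,0,0,0,1,0,1,0,1,0,0,0,1,0,0,1],[1,0,0,0,0,1,0,1,0,1,0,0,0,1,0,1,0],[1,0,0,0,0,1,0,1,0,1,0,0,1,0,0,0,0],[1,0,0,0,0,1,0,1,0,1,0,0,1,0,0,0,1],[1,0,0,0,0,1,0,1,0,1,0,0,1,0,0,1,0],[1,0,0,0,1,0,0,0,1,0,0,0,1,0,0,1,0],[1,0,0,0,1,0,0,0,1,0,0,0,1,0,1,0,1],[1,0,0,0,1,0,0,0,1,0,0,1,0,1,0,0,0],[1,0,0,0,1,0,0,0,1,0,0,1,0,1,0,0,1],[1,0,0,0,1,0,0,0,1,0,1,0,0,1,0,0,0],[1,0,0,0,1,0,0,0,1,0,1,0,0,1,0,0,1],[1,0,0,0,1,0,0,0,1,0,1,0,0,1,0,1,0],[1,0,0,0,1,0,0,1,0,1,0,0,0,1,0,0,0],[1,0,0,0,1,0,0,1,0,1,0,0,0,1,0,1,0],[1,0,0,0,1,0,0,1,0,1,0,0,1,0,1,0,0],[1,0,0,0,1,0,0,1,0,1,0,1,0,0,1,0,0],[1,0,0,0,1,0,0,1,0,1,0,1,0,0,1,0,1],[1,0,0,0,1,0,1,0,0,1,0,1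,0,0,1,0,1],[1,0,0,0,1,0,1,0,0,1,0,1,0,1,0,0,1],[1,0,0,1,0,0,0,0,1,0,0,1,0,0,0,1,0],[1,0,0,1,0,0,0,0,1,0,0,1,0,0,1,0,0],[1,0,0,1,0,0,0,0,1,0,0,1,0,0,1,0,1],[1,0,0,1,0,0,0,0,1,0,0,1,0,1,0,0,1],[1,0,0,1,0,0,0,0,1,0,1,0,1,0,0,0,0],[1,0,0,1,0,0,0,0,1,0,1,0,1,0,0,0,1],[1,0,0,1,0,0,0,0,1,0,1,0,1,0,0,1,0],[1,0,0,1,0,0,0,1,0,1,0,0,1,0,0,0,0],[1,0,0,1,0,0,0,1,0,1,0,0,1,0,0,0,1],[1,0,0,1,0,0,0,1,0,1,0,0,1,0,1,0,0],[1,0,0,1,0,0,1,0,0,1,0,0,1,0,0,1,0],[1,0,0,1,0,0,1,0,0,1,0,1,0,1,0,0,1],[1,0,0,1,0,0,1,0,1,0,1,0,0,1,0,0,0],[1,0,0,1,0,1,0,0,0,1,0,0,1,0,1,0,0],[1,0,0,1,0,1,0,1,0,0,1,0,0,0,1,0,1],[1,0,0,1,0,1,0,1,0,0,1,0,0,1,0,0,1],[1,0,0,1,0,1,0,1,0,0,1,0,1,0,0,0,1],[1,0,0,1,0,1,0,1,0,0,1,0,1,0,0,1,0],[1,0,1,0,0,0,0,0,1,0,1,0,0,0,0,1,0],[1,0,1,0,0,0,0,0,1,0,1,0,0,0,1,0,0],[1,0,1,0,0,0,0,0,1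,0,1,0,0,0,1,0,1],[1,0,1,0,0,0,0,0,1,0,1,0,0,1,0,0,0],[1,0,1,0,0,0,0,0,1,0,1,0,0,1,0,0,1],[1,0,1,0,0,0,0,0,1,0,1,0,1,0,0,0,1],[1,0,1,0,0,0,0,0,1,0,1,0,1,0,0,1,0],[1,0,1,0,0,0,0,1,0,1,0,1,0,0,0,0,0],[1,0,1,0,0,0,0,1,0,1,0,1,0,0,0,0,1],[1,0,1,0,0,0,0,1,0,1,0,1,0,0,0,1,0],[1,0,1,0,0,0,1,0,0,1,0,1,0,0,0,1,0],[1,0,1,0,0,0,1,0,0,1,0,1,0,1,0,0,1],[1,0,1,0,0,1,0,0,0,1,0,1,0,0,1,0,0],[1,0,1,0,0,1,0,1,0,0,1,0,1,0,0,0,1],[1,0,1,0,0,1,0,1,0,0,1,0,1,0,1,0,0],[1,0,1,0,0,1,0,1,0,0,1,0,1,0,1,0,1],[1,0,1,0,1,0,0,1,0,0,1,0,1,0,1,0,1],[1,0,0,0,0,0,0,1,0,1,0,1,0,0,1,0,1,0],[1,0,0,0,0,0,1,0,1,0,0,0,0,1,0,1,0,1],[1,0,0,0,0,0,1,0,1,0,0,0,1,0,1,0,1,0],[1,0,0,0,0,0,1,0,1,0,0,1,0,0,0,1,0,1],[1,0,0,0,0,0,1,0,1,0,0,1,0,1,0,0,1,0],[1,0,0,0,0,0,1,0,1,0,1,0,0,0,1,0,1,0],[1,0,0,0,0,0,1,0,1,0,1,0,0,1,0,0,1,0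],[1,0,0,0,0,1,0,0,1,0,0,0,1,0,1,0,1,0],[1,0,0,0,0,1,0,0,1,0,0,1,0,0,1,0,1,0],[1,0,0,0,0,1,0,0,1,0,1,0,0,0,1,0,1,0],[1,0,0,0,0,1,0,0,1,0,1,0,0,1,0,1,0,0],[1,0,0,0,0,1,0,0,1,0,1,0,0,1,0,1,0,1],[1,0,0,0,0,1,0,0,1,0,1,0,1,0,0,1,0,0],[1,0,0,0,0,1,0,0,1,0,1,0,1,0,0,1,0,1],[1,0,0,0,0,1,0,1,0,1,0,0,0,0,1,0,0,1],[1,0,0,0,0,1,0,1,0,1,0,0,0,0,1,0,1,0],[1,0,0,0,0,1,0,1,0,1,0,0,0,1,0,0,1,0],[1,0,0,0,0,1,0,1,0,1,0,0,0,1,0,1,0,0],[1,0,0,0,0,1,0,1,0,1,0,0,1,0,0,0,1,0],[1,0,0,0,0,1,0,1,0,1,0,0,1,0,0,1,0,0],[1,0,0,0,1,0,0,0,1,0,0,0,1,0,1,0,1,0],[1,0,0,0,1,0,0,0,1,0,0,1,0,1,0,0,0,1],[1,0,0,0,1,0,0,0,1,0,1,0,0,1,0,0,1,0],[1,0,0,0,1,0,0,0,1,0,1,0,0,1,0,1,0,0],[1,0,0,0,1,0,0,0,1,0,1,0,0,1,0,1,0,1],[1,0,0,0,1,0,0,1,0,1,0,0,0,1,0,1,0,0],[1,0,0,0,1,0,0,1,0,1,0,0,0,1,0,1,0,1],[1,0,0,0,1,0,0,1,0,1,0,0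,1,0,1,0,0,0],[1,0,0,0,1,0,0,1,0,1,0,1,0,0,1,0,0,0],[1,0,0,0,1,0,0,1,0,1,0,1,0,0,1,0,0,1],[1,0,0,0,1,0,0,1,0,1,0,1,0,0,1,0,1,0],[1,0,0,0,1,0,1,0,0,1,0,1,0,0,1,0,1,0],[1,0,0,1,0,0,0,0,1,0,0,1,0,0,1,0,0,1],[1,0,0,1,0,0,0,0,1,0,0,1,0,0,1,0,1,0],[1,0,0,1,0,0,0,0,1,0,0,1,0,1,0,0,1,0],[1,0,0,1,0,0,0,0,1,0,1,0,1,0,0,0,1,0],[1,0,0,1,0,0,0,0,1,0,1,0,1,0,0,1,0,0],[1,0,0,1,0,0,0,1,0,1,0,0,1,0,1,0,0,0],[1,0,0,1,0,0,0,1,0,1,0,0,1,0,1,0,0,1],[1,0,0,1,0,0,1,0,0,1,0,0,1,0,0,1,0,1],[1,0,0,1,0,0,1,0,0,1,0,1,0,1,0,0,1,0],[1,0,0,1,0,0,1,0,1,0,1,0,0,1,0,0,0,0],[1,0,0,1,0,0,1,0,1,0,1,0,0,1,0,0,0,1],[1,0,0,1,0,1,0,0,0,1,0,0,1,0,1,0,0,0],[1,0,0,1,0,1,0,1,0,0,1,0,1,0,0,1,0,1],[1,0,1,0,0,0,0,0,1,0,1,0,0,0,0,1,0,0],[1,0,1,0,0,0,0,0,1,0,1,0,0,0,1,0,0,0],[1,0,1,0,0,0,0,0,1,0,1,0,0,1,0,0,0,0],[1,0,1,0,0,0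,0,0,1,0,1,0,0,1,0,0,0,1],[1,0,1,0,0,0,0,0,1,0,1,0,1,0,0,0,1,0],[1,0,1,0,0,0,0,0,1,0,1,0,1,0,0,1,0,0],[1,0,1,0,0,0,0,0,1,0,1,0,1,0,0,1,0,1],[1,0,1,0,0,0,0,1,0,1,0,1,0,0,0,0,0,0],[1,0,1,0,0,0,0,1,0,1,0,1,0,0,0,1,0,0],[1,0,1,0,0,0,1,0,0,1,0,1,0,0,0,1,0,1],[1,0,1,0,0,0,1,0,0,1,0,1,0,1,0,0,1,0],[1,0,1,0,0,1,0,1,0,0,1,0,1,0,1,0,0,1],[1,0,0,0,0,0,1,0,1,0,0,1,0,0,0,1,0,1,0],[1,0,0,0,0,0,1,0,1,0,1,0,0,1,0,0,1,0,1],[1,0,0,0,0,1,0,0,1,0,0,1,0,0,1,0,1,0,1],[1,0,0,0,0,1,0,0,1,0,1,0,0,1,0,1,0,0,1],[1,0,0,0,0,1,0,0,1,0,1,0,0,1,0,1,0,1,0],[1,0,0,0,0,1,0,0,1,0,1,0,1,0,0,1,0,0,1],[1,0,0,0,0,1,0,0,1,0,1,0,1,0,0,1,0,1,0],[1,0,0,0,0,1,0,1,0,1,0,0,0,1,0,0,1,0,1],[1,0,0,0,0,1,0,1,0,1,0,0,0,1,0,1,0,0,1],[1,0,0,0,0,1,0,1,0,1,0,0,1,0,0,0,1,0,1],[1,0,0,0,0,1,0,1,0,1,0,0,1,0,0,1,0,0,1],[1,0,0,0,1,0,0,0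,1,0,0,1,0,1,0,0,0,1,0],[1,0,0,0,1,0,0,0,1,0,1,0,0,1,0,0,1,0,1],[1,0,0,0,1,0,0,0,1,0,1,0,0,1,0,1,0,1,0],[1,0,0,0,1,0,0,1,0,1,0,0,0,1,0,1,0,1,0],[1,0,0,0,1,0,0,1,0,1,0,0,1,0,1,0,0,0,1],[1,0,0,0,1,0,0,1,0,1,0,1,0,0,1,0,0,0,1],[1,0,0,0,1,0,0,1,0,1,0,1,0,0,1,0,0,1,0],[1,0,0,0,1,0,0,1,0,1,0,1,0,0,1,0,1,0,0],[1,0,0,0,1,0,1,0,0,1,0,1,0,0,1,0,1,0,1],[1,0,0,1,0,0,0,0,1,0,0,1,0,0,1,0,0,1,0],[1,0,0,1,0,0,0,0,1,0,0,1,0,1,0,0,1,0,1],[1,0,0,1,0,0,0,0,1,0,1,0,1,0,0,0,1,0,1],[1,0,0,1,0,0,0,0,1,0,1,0,1,0,0,1,0,0,1],[1,0,0,1,0,0,0,1,0,1,0,0,1,0,1,0,0,1,0],[1,0,0,1,0,0,1,0,0,1,0,0,1,0,0,1,0,1,0],[1,0,0,1,0,0,1,0,1,0,1,0,0,1,0,0,0,0,1],[1,0,1,0,0,0,0,0,1,0,1,0,1,0,0,0,1,0,0],[1,0,1,0,0,0,0,0,1,0,1,0,1,0,0,0,1,0,1],[1,0,1,0,0,0,0,0,1,0,1,0,1,0,0,1,0,0,0],[1,0,1,0,0,0,0,1,0,1,0,1,0,0,0,1,0,0,0],[1,0,1,0,0,0,0,1,0,1,0,1,0,0,0,1,0,0,1],[1,0,1,0,0,0,1,0,0,1,0,1,0,1,0,0,1,0,1],[1,0,0,0,0,0,1,0,1,0,0,1,0,0,0,1,0,1,0,1],[1,0,0,0,1,0,0,0,1,0,0,1,0,1,0,0,0,1,0,1],[1,0,0,0,1,0,0,1,0,1,0,1,0,0,1,0,0,0,1,0],[1,0,0,0,1,0,0,1,0,1,0,1,0,0,1,0,1,0,0,1],[1,0,0,0,1,0,1,0,0,1,0,1,0,0,1,0,1,0,1,0],[1,0,0,0,1,0,0,1,0,1,0,1,0,0,1,0,1,0,0,1,0],[1,0,0,0,1,0,0,1,0,1,0,1,0,0,1,0,1,0,0,1,0,1]]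
/-- tree -/
def trS7 : List (ℕ × ℕ) := [(0,1),(1,0),(2,0),(2,1),(3,0),(3,1),(4,0),(5,0),(5,1),(6,0),(7,0),(7,1),(8,0),(8,1),(9,0),(10,0),(10,1),(11,0),(11,1),(12,0),(13,0),(13,1),(14,0),(15,0),(15,1),(16,0),(16,1),(17,0),(18,0),(18,1),(19,0),(20,0),(20,1),(21,1),(22,0),(23,0),(23,1),(24,0),(24,1),(25,0),(26,0),(26,1),(27,0),(28,0),(28,1),(29,0),(29,1),(30,0),(31,0),(31,1),(32,0),(32,1),(34,0),(35,1),(36,1),(37,0),(38,1),(39,0),(40,0),(40,1),(41,1),(42,0),(43,0),(43,1),(44,0),(44,1),(45,0),(46,0),(46,1),(47,0),(48,0),(48,1),(49,0),(49,1),(50,0),(51,0),(51,1),(52,0),(53,0),(53,1),(54,0),(55,0),(56,1),(57,0),(58,1),(59,1),(60,0),(61,0),(62,1),(63,1),(64,0),(65,1),(66,0),(67,0),(67,1),(68,1),(69,0),(70,0),(70,1),(71,0),(71,1),(72,0),(73,0),(73,1),(74,0),(75,0),(75,1),(76,0),(76,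1),(77,0),(78,0),(78,1),(79,0),(79,1),(80,0),(81,0),(81,1),(82,0),(82,1),(83,0),(84,0),(84,1),(85,0),(86,0),(87,1),(88,0),(88,1),(89,0),(90,0),(91,1),(92,0),(93,1),(94,1),(97,1),(98,1),(99,0),(100,1),(101,0),(102,0),(102,1),(103,1),(104,0),(105,0),(105,1),(106,0),(106,1),(107,0),(108,0),(108,1),(109,0),(110,0),(110,1),(111,0),(111,1),(112,0),(113,0),(113,1),(114,0),(115,0),(115,1),(116,0),(116,1),(117,0),(118,0),(118,1),(119,0),(120,0),(120,1),(121,0),(121,1),(122,0),(123,0),(123,1),(124,0),(124,1),(126,1),(127,0),(128,0),(128,1),(129,0),(129,1),(130,0),(131,0),(131,1),(132,0),(133,0),(134,0),(136,1),(138,1),(139,1),(140,0),(142,1),(143,1),(144,0),(145,1),(146,0),(147,0),(147,1),(148,1),(149,0),(150,0),(150,1),(151,0),(151,1),(152,0),(153,0),(153,1),(154,0),(155,0),(155,1),(1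56,0),(156,1),(157,0),(158,0),(158,1),(159,0),(159,1),(160,0),(161,0),(161,1),(162,0),(163,0),(163,1),(164,0),(164,1),(165,0),(166,0),(166,1),(167,0),(167,1),(169,1),(170,0),(171,0),(171,1),(172,0),(172,1),(173,0),(174,0),(174,1),(175,0),(176,0),(177,1),(178,1),(179,0),(180,1),(181,0),(182,0),(182,1),(183,0),(183,1),(184,0),(185,0),(185,1),(186,0),(186,1),(187,0),(187,1),(188,0),(189,0),(191,1),(192,0),(194,1),(196,1),(197,1),(200,1),(201,1),(202,0),(203,1),(204,0),(205,0),(205,1),(206,1),(207,0),(208,0),(208,1),(209,0),(209,1),(210,0),(211,1),(212,0),(213,0),(213,1),(214,0),(214,1),(215,0),(216,0),(216,1),(217,0),(218,0),(218,1),(219,0),(219,1),(220,0),(221,0),(221,1),(222,0),(222,1),(225,0),(226,0),(226,1),(227,0),(227,1),(228,0),(229,0),(229,1),(230,0),(231,0),(232,1),(233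,1),(234,0),(235,1),(236,0),(237,0),(237,1),(238,0),(238,1),(239,0),(240,0),(240,1),(241,0),(241,1),(242,0),(243,0),(244,1),(245,0),(246,1),(247,1),(249,1),(250,0),(251,0),(251,1),(252,0),(252,1),(253,0),(254,0),(254,1),(255,0),(256,0),(256,1),(257,0),(258,0),(258,1),(259,0),(259,1),(261,0),(261,1),(262,0),(263,0),(267,1),(269,1),(270,1),(271,0),(273,1),(274,1),(275,0),(276,1),(277,0),(278,0),(280,1),(281,1),(282,0),(283,0),(283,1),(284,0),(285,0),(286,1),(287,0),(288,0),(288,1),(289,0),(289,1),(292,0),(293,0),(293,1),(294,0),(294,1),(295,0),(296,0),(296,1),(297,0),(298,1),(299,1),(300,0),(301,1),(302,0),(303,0),(303,1),(304,0),(304,1),(305,0),(306,0),(306,1),(307,0),(307,1),(308,0),(309,0),(310,1),(311,0),(312,1),(313,1),(315,1),(316,0),(317,0),(317,1),(318,0),(318,1),(319,0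),(320,0),(320,1),(321,0),(322,0),(322,1),(323,0),(323,1),(325,0),(325,1),(326,0),(327,0),(329,1),(330,1),(331,0),(332,1),(333,0),(334,0),(334,1),(335,0),(335,1),(336,0),(337,0),(337,1),(338,0),(338,1),(339,0),(340,0),(340,1),(341,0),(341,1),(343,0),(343,1),(344,0),(345,1),(346,0),(347,0),(347,1),(348,0),(348,1),(349,0),(355,1),(357,1),(358,1),(361,1),(363,0),(364,0),(364,1),(365,0),(365,1),(367,1),(368,1),(369,0),(370,0),(370,1),(371,0),(372,1),(373,1),(374,0),(375,0),(375,1),(376,0),(377,0),(378,1),(379,0),(380,0),(380,1),(381,0),(382,0),(384,0),(385,1),(386,1),(388,1),(389,0),(390,0),(390,1),(391,0),(391,1),(393,1),(394,0),(395,0),(396,0),(396,1),(398,0),(398,1),(399,0),(400,0),(403,1),(404,0),(405,1),(406,0),(407,0),(407,1),(408,1),(409,0),(410,0),(411,0),(411,1),(413,0),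(413,1),(414,0),(415,1),(416,0),(417,0),(417,1),(418,0),(418,1),(419,0),(421,1),(424,1),(426,1),(427,0),(428,0),(428,1),(429,0),(429,1),(431,1),(432,0),(433,0),(434,0),(434,1),(436,0),(436,1),(438,1),(439,0),(440,0),(440,1),(441,0),(442,1),(443,1),(445,0),(446,0),(447,1),(448,0),(454,0),(456,0),(459,1),(461,0),(462,0),(462,1),(463,0),(464,0),(465,1),(467,0),(468,0),(468,1),(469,0),(469,1),(470,0),(471,1),(472,1),(473,0),(474,0),(474,1),(475,0),(475,1),(476,0),(476,1),(477,0),(478,0),(480,0),(480,1),(481,1),(482,0),(483,0),(483,1),(484,0),(485,0),(486,1),(487,0),(487,1),(488,0),(488,1),(489,0),(490,0),(491,0),(492,0),(493,0),(493,1),(497,1),(498,1),(500,0),(501,0),(501,1),(502,1),(503,0),(503,1),(504,0),(505,0),(505,1),(507,0),(508,0),(510,1),(512,0),(514,0),(518,1),(519,1),(5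21,1),(522,0),(523,0),(524,0),(524,1),(525,0),(525,1),(526,1),(527,0),(528,0),(528,1),(529,0),(530,0),(532,1),(534,0),(537,1),(538,0),(538,1),(540,1),(546,0),(547,1),(549,0),(550,1),(554,0),(556,0),(557,0),(560,0),(562,0),(564,0),(565,0),(565,1),(566,0),(566,1),(567,1),(568,0),(569,0),(570,0),(572,0),(573,0),(575,0),(576,1),(579,0),(580,0),(580,1),(582,0),(582,1),(583,0),(584,0),(584,1),(585,0),(586,0),(589,1),(590,0),(591,0),(593,0),(594,0),(597,0),(597,1),(598,1),(599,0),(600,0),(600,1),(601,0),(605,1),(606,0),(607,0),(609,0),(609,1),(611,0),(612,0),(612,1),(613,0),(615,0),(616,1),(617,0),(620,1),(626,0),(629,1),(631,1),(633,1),(634,0),(635,1),(636,0),(639,1),(640,1),(641,1),(642,1),(644,0),(645,1),(647,0),(649,0),(650,1),(651,1),(652,0),(653,0),(654,1),(655,0),(657,1),(658,1),(659,1),(661,0),(662,0),(664,1),(672,0),(672,1),(673,0),(676,0),(676,1),(678,1),(680,1),(691,1),(696,0),(698,1),(699,0),(716,0),(718,1)]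
/-- scans -/
def scS7 : List (ℕ × ℕ) := [(0,6),(0,1),(2,1),(3,1),(5,1),(7,1),(8,1),(10,1),(11,1),(13,1),(15,1),(16,1),(18,1),(20,1),(21,1),(23,1),(24,1),(26,1),(28,1),(29,1),(31,1),(32,1),(35,1),(36,1),(38,1),(40,1),(41,1),(43,1),(44,1),(46,1),(48,1),(49,1),(51,1),(53,1),(56,1),(58,1),(59,1),(62,1),(63,1),(65,1),(67,1),(68,1),(70,1),(71,1),(73,1),(75,1),(76,1),(78,1),(79,1),(81,1),(82,1),(84,1),(87,1),(88,1),(91,1),(93,1),(94,1),(97,1),(98,1),(100,1),(102,1),(103,1),(105,1),(106,1),(108,1),(110,1),(111,1),(113,1),(115,1),(116,1),(118,1),(120,1),(121,1),(123,1),(124,1),(126,1),(128,1),(129,1),(131,1),(136,1),(138,1),(139,1),(142,1),(143,1),(145,1),(147,1),(148,1),(150,1),(151,1),(153,1),(155,1),(156,1),(158,1),(159,1),(161,1),(163,1),(164,1),(166,1),(167,1),(169,1),(171,1),(1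72,1),(174,1),(177,1),(178,1),(180,1),(182,1),(183,1),(185,1),(186,1),(187,1),(191,1),(194,1),(196,1),(197,1),(200,1),(201,1),(203,1),(205,1),(206,1),(208,1),(209,1),(211,1),(213,1),(214,1),(216,1),(218,1),(219,1),(221,1),(222,1),(226,1),(227,1),(229,1),(232,1),(233,1),(235,1),(237,1),(238,1),(240,1),(241,1),(244,1),(246,1),(247,1),(249,1),(251,1),(252,1),(254,1),(256,1),(258,1),(259,1),(261,1),(267,1),(269,1),(270,1),(273,1),(274,1),(276,1),(280,1),(281,1),(283,1),(286,1),(288,1),(289,1),(293,1),(294,1),(296,1),(298,1),(299,1),(301,1),(303,1),(304,1),(306,1),(307,1),(310,1),(312,1),(313,1),(315,1),(317,1),(318,1),(320,1),(322,1),(323,1),(325,1),(329,1),(330,1),(332,1),(334,1),(335,1),(337,1),(338,1),(340,1),(341,1),(343,1),(345,1),(347,1),(348,1),(355,1),(357,1),(358,1),(361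,1),(364,1),(365,1),(367,1),(368,1),(370,1),(372,1),(373,1),(375,1),(378,1),(380,1),(385,1),(386,1),(388,1),(390,1),(391,1),(393,1),(396,1),(398,1),(403,1),(405,1),(407,1),(408,1),(411,1),(413,1),(415,1),(417,1),(418,1),(421,1),(424,1),(426,1),(428,1),(429,1),(431,1),(434,1),(436,1),(438,1),(440,1),(442,1),(443,1),(447,1),(459,1),(462,1),(465,1),(468,1),(469,1),(471,1),(472,1),(474,1),(475,1),(476,1),(480,1),(481,1),(483,1),(486,1),(487,1),(488,1),(493,1),(497,1),(498,1),(501,1),(502,1),(503,1),(505,1),(510,1),(518,1),(519,1),(521,1),(524,1),(525,1),(526,1),(528,1),(532,1),(537,1),(538,1),(540,1),(547,1),(550,1),(565,1),(566,1),(567,1),(576,1),(580,1),(582,1),(584,1),(589,1),(597,1),(598,1),(600,1),(605,1),(609,1),(612,1),(616,1),(620,1),(629,1),(631,1),(633,1),(635,1),(639,1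),(640,1),(641,1),(642,1),(645,1),(650,1),(651,1),(654,1),(657,1),(658,1),(659,1),(664,1),(672,1),(676,1),(678,1),(680,1),(691,1),(698,1),(718,1),(1,0),(4,0),(12,0),(188,0),(0,5),(1,5),(8,5),(14,5),(0,4),(1,4),(4,4),(5,4),(8,4),(9,4),(13,4),(14,4),(18,4),(30,4),(0,2),(2,2),(3,2),(5,2),(7,2),(8,2),(11,2),(13,2),(15,2),(16,2),(18,2),(23,2),(24,2),(26,2),(40,2),(33,0),(54,0),(69,0),(83,0),(2,5),(3,5),(4,5),(6,5),(7,5),(12,5),(15,5),(16,5),(20,5),(21,5),(23,5),(25,5),(27,5),(29,5),(33,5),(34,5),(35,5),(46,5),(47,5),(48,5),(49,5),(54,5),(61,5),(72,5),(76,5),(79,5),(108,5),(125,5),(149,5),(7,4),(10,4),(12,4),(17,4),(20,4),(21,4),(23,4),(26,4),(29,4),(31,4),(33,4),(34,4),(37,4),(38,4),(41,4),(43,4),(46,4),(50,4),(57,4),(58,4),(60,4),(73,4),(76,4),(85,4),(108,4),(113,4),(118,4),(125,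4),(148,4),(153,4),(161,4),(165,4),(174,4),(179,4),(207,4),(211,4),(215,4),(216,4),(219,4),(220,4),(234,4),(237,4),(239,4),(240,4),(279,4),(283,4),(292,4),(363,4),(379,4),(9,3),(13,3),(22,3),(42,3),(46,3),(69,3),(178,3),(214,3),(10,2),(20,2),(28,2),(29,2),(31,2),(32,2),(43,2),(44,2),(48,2),(49,2),(51,2),(73,2),(75,2),(78,2),(81,2),(102,2),(105,2),(113,2),(116,2),(120,2),(123,2),(128,2),(222,2),(224,1),(291,1),(377,1),(395,1),(410,1),(492,1),(495,1),(507,1),(509,1),(595,1),(625,1),(92,0),(130,0),(173,0),(202,0),(28,5),(36,5),(45,5),(53,5),(55,5),(56,5),(62,5),(63,5),(67,5),(71,5),(80,5),(83,5),(84,5),(86,5),(88,5),(89,5),(90,5),(91,5),(95,5),(97,5),(98,5),(102,5),(103,5),(120,5),(122,5),(126,5),(130,5),(170,5),(171,5),(176,5),(177,5),(206,5),(213,5),(227,5),(244,5),(260,5),(27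8,5),(281,5),(282,5),(284,5),(285,5),(291,5),(293,5),(294,5),(298,5),(302,5),(319,5),(324,5),(332,5),(362,5),(374,5),(376,5),(381,5),(417,5),(458,5),(479,5),(511,5),(515,5),(559,5),(578,5),(62,4),(65,4),(70,4),(89,4),(92,4),(93,4),(97,4),(99,4),(110,4),(132,4),(134,4),(145,4),(182,4),(191,4),(203,4),(206,4),(224,4),(231,4),(235,4),(258,4),(268,4),(276,4),(278,4),(290,4),(293,4),(301,4),(304,4),(309,4),(315,4),(322,4),(332,4),(364,4),(367,4),(375,4),(378,4),(383,4),(385,4),(387,4),(388,4),(394,4),(395,4),(397,4),(404,4),(406,4),(431,4),(449,4),(451,4),(452,4),(457,4),(466,4),(467,4),(499,4),(526,4),(533,4),(536,4),(51,3),(65,3),(77,3),(108,3),(109,3),(121,3),(148,3),(149,3),(151,3),(160,3),(165,3),(170,3),(193,3),(204,3),(233,3),(245,3),(268,3),(281,3),(287,3),(309,3),(311,3),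(316,3),(318,3),(333,3),(338,3),(360,3),(379,3),(400,3),(403,3),(439,3),(458,3),(464,3),(472,3),(473,3),(478,3),(481,3),(483,3),(506,3),(67,2),(106,2),(110,2),(118,2),(121,2),(147,2),(166,2),(171,2),(172,2),(185,2),(205,2),(221,2),(229,2),(240,2),(256,2),(293,2),(294,2),(303,2),(304,2),(318,2),(334,2),(335,2),(340,2),(343,2),(365,2),(370,2),(380,2),(434,2),(440,2),(469,2),(483,2),(402,1),(514,1),(534,1),(607,1),(613,1),(648,1),(660,1),(693,1),(715,1),(266,0),(275,0),(328,0),(333,0),(427,0),(446,0),(681,0),(136,5),(139,5),(142,5),(174,5),(190,5),(192,5),(259,5),(320,5),(344,5),(345,5),(347,5),(354,5),(402,5),(409,5),(410,5),(440,5),(443,5),(453,5),(478,5),(480,5),(481,5),(494,5),(497,5),(533,5),(540,5),(564,5),(565,5),(568,5),(595,5),(597,5),(598,5),(603,5),(628,5),(634,5),(652,5),(704,5),(705,5),(405,4),(427,4),(537,4),(565,4),(651,4),(678,4),(604,3)]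

theorem lenS7 : rlS7.length ≤ 6 := by decide

theorem tcS7 : check (tbl tbS7) (nth [] wdS7) (nth [] (rlS7 ++ [[0]])) rlS7.length 720 2 trS7 scS7 = true := by
  decide +kernel

theorem relS7 : ∀ w ∈ rlS7, ev (gT (finRotate 7) (swap (0 : Fin 7) 1)) w = 1 := by
  decide +kernel

theorem presS7 : Nonempty (PP rlS7 ≃* Perm (Fin 7)) :=
  iso_of_cert (x := finRotate 7) (y := swap (0 : Fin 7) 1) (s := 0) (k := 7) (m := 720) (k0 := 6) (k1 := 1)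
    (by decide) (by norm_num) (by decide) (by decide) tcS7 relS7
    (by
      have h := closure_cycle_adjacent_swap (isCycle_finRotate (n := 5)) support_finRotate 0
      have h2 : finRotate (5 + 2) 0 = 1 := by decide
      rw [h2] at h
      exact h)
    (by
      rw [Nat.card_eq_fintype_card, Fintype.card_perm, Fintype.card_fin]
      decide)

/-- relators -/
def rlA3 : List (List ℕ) := [[0,0,0],[1],[0,1,0,1,0,1]]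
/-- table -/
def tbA3 : List (List ℕ) := [[0,0]]
/-- words -/
def wdA3 : List (List ℕ) := [[]]
/-- tree -/
def trA3 : List (ℕ × ℕ) := []
/-- scans -/
def scA3 : List (ℕ × ℕ) := [(0,3),(0,1)]

theorem lenA3 : rlA3.length ≤ 6 := by decide

theorem tcA3 : check (tbl tbA3) (nth [] wdA3) (nth [] (rlA3 ++ [[0]])) rlA3.length 1 2 trA3 scA3 = true := by
  decide +kernel

theorem sgnA3 : sign (yP 0 false) = 1 := by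
  decide +kernel

theorem relA3 : ∀ w ∈ rlA3, ev (gT (cycA (0 : Fin 1)) (⟨yP 0 false, sgnA3⟩ : alternatingGroup (Fin 1 ⊕ Bool))) w = 1 := by
  decide +kernel

theorem presA3' : Nonempty (PP rlA3 ≃* alternatingGroup (Fin 1 ⊕ Bool)) :=
  iso_of_cert (x := cycA (0 : Fin 1)) (y := (⟨yP 0 false, sgnA3⟩ : alternatingGroup (Fin 1 ⊕ Bool))) (s := 0) (k := 3) (m := 1) (k0 := 2) (k1 := 0)
    (by decide) (by norm_num) (by decide) (by decide) tcA3 relA3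
    (closure_alt 0 false sgnA3)
    (by
      haveI : Nontrivial (Fin 1 ⊕ Bool) := ⟨⟨Sum.inr false, Sum.inr true, by simp⟩⟩
      have h1 := two_mul_nat_card_alternatingGroup (α := Fin 1 ⊕ Bool)
      rw [Nat.card_eq_fintype_card (α := Perm (Fin 1 ⊕ Bool)), Fintype.card_perm] at h1
      simp only [Fintype.card_sum, Fintype.card_fin, Fintype.card_bool] at h1
      have h2 : (1 + 2).factorial = 6 := by decide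
      omega)

theorem presA3 : Nonempty (PP rlA3 ≃* alternatingGroup (Fin 3)) := by
  obtain ⟨φ⟩ := presA3'
  have hc : Fintype.card (Fin 1 ⊕ Bool) = 3 := by simp
  exact ⟨φ.trans (Fintype.equivFinOfCardEq hc).altCongrHom⟩

/-- relators -/
def rlA4 : List (List ℕ) := [[0,0,0],[1,1],[0,1,0,1,0,1],[0,0,1,0,1,0,0,1,0,1]]
/-- table -/
def tbA4 : List (List ℕ) := [[1,0],[2,3],[0,4],[4,1],[5,2],[3,5]]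
/-- words -/
def wdA4 : List (List ℕ) := [[],[0],[0,0],[0,1],[0,0,1],[0,0,1,0]]
/-- tree -/
def trA4 : List (ℕ × ℕ) := [(0,0),(1,0),(1,1),(2,1),(4,0)]
/-- scans -/
def scA4 : List (ℕ × ℕ) := [(0,4),(1,1),(2,1),(0,0),(0,2),(3,0),(0,3)]

theorem lenA4 : rlA4.length ≤ 6 := by decide

theorem tcA4 : check (tbl tbA4) (nth [] wdA4) (nth [] (rlA4 ++ [[1]])) rlA4.length 6 2 trA4 scA4 = true := by
  decide +kernel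

theorem sgnA4 : sign (yP 1 true) = 1 := by
  decide +kernel

theorem relA4 : ∀ w ∈ rlA4, ev (gT (cycA (0 : Fin 2)) (⟨yP 1 true, sgnA4⟩ : alternatingGroup (Fin 2 ⊕ Bool))) w = 1 := by
  decide +kernel

theorem presA4' : Nonempty (PP rlA4 ≃* alternatingGroup (Fin 2 ⊕ Bool)) :=
  iso_of_cert (x := cycA (0 : Fin 2)) (y := (⟨yP 1 true, sgnA4⟩ : alternatingGroup (Fin 2 ⊕ Bool))) (s := 1) (k := 2) (m := 6) (k0 := 2) (k1 := 1)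
    (by decide) (by norm_num) (by decide) (by decide) tcA4 relA4
    (closure_alt 1 true sgnA4)
    (by
      haveI : Nontrivial (Fin 2 ⊕ Bool) := ⟨⟨Sum.inr false, Sum.inr true, by simp⟩⟩
      have h1 := two_mul_nat_card_alternatingGroup (α := Fin 2 ⊕ Bool)
      rw [Nat.card_eq_fintype_card (α := Perm (Fin 2 ⊕ Bool)), Fintype.card_perm] at h1
      simp only [Fintype.card_sum, Fintype.card_fin, Fintype.card_bool] at h1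
      have h2 : (2 + 2).factorial = 24 := by decide
      omega)

theorem presA4 : Nonempty (PP rlA4 ≃* alternatingGroup (Fin 4)) := by
  obtain ⟨φ⟩ := presA4'
  have hc : Fintype.card (Fin 2 ⊕ Bool) = 4 := by simp
  exact ⟨φ.trans (Fintype.equivFinOfCardEq hc).altCongrHom⟩

/-- relators -/
def rlA5 : List (List ℕ) := [[0,0,0],[1,1,1],[0,1,0,1,0,1,0,1,0,1],[0,1,1,0,1,0,1,1,0,1]]
/-- table -/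
def tbA5 : List (List ℕ) := [[1,0],[2,3],[0,4],[5,6],[7,8],[9,10],[11,1],[12,13],[13,2],[3,14],[10,15],[14,12],[4,16],[15,17],[6,18],[8,5],[16,11],[18,7],[19,9],[17,19]]
/-- words -/
def wdA5 : List (List ℕ) := [[],[0],[0,0],[0,1],[0,0,1],[0,1,0],[0,1,1],[0,0,1,0],[0,0,1,1],[0,1,0,0],[0,1,0,1],[0,1,1,0],[0,0,1,0,0],[0,0,1,0,1],[0,1,0,0,1],[0,1,0,1,1],[0,0,1,0,0,1],[0,0,1,0,1,1],[0,1,0,0,1,1],[0,1,0,0,1,1,0]]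
/-- tree -/
def trA5 : List (ℕ × ℕ) := [(0,0),(1,0),(1,1),(2,1),(3,0),(3,1),(4,0),(4,1),(5,0),(5,1),(6,0),(7,0),(7,1),(9,1),(10,1),(12,1),(13,1),(14,1),(18,0)]
/-- scans -/
def scA5 : List (ℕ × ℕ) := [(0,4),(1,1),(2,1),(5,1),(7,1),(9,1),(0,0),(3,0),(4,0),(0,3),(2,3),(4,3),(0,2),(6,2),(11,1),(8,0),(17,0),(1,3),(5,3),(7,3),(8,3)]

theorem lenA5 : rlA5.length ≤ 6 := by decide

theorem tcA5 : check (tbl tbA5) (nth [] wdA5) (nth [] (rlA5 ++ [[1]])) rlA5.length 20 2 trA5 scA5 = true := by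
  decide +kernel

theorem sgnA5 : sign (yP 2 false) = 1 := by
  decide +kernel

theorem relA5 : ∀ w ∈ rlA5, ev (gT (cycA (0 : Fin 3)) (⟨yP 2 false, sgnA5⟩ : alternatingGroup (Fin 3 ⊕ Bool))) w = 1 := by
  decide +kernel

theorem presA5' : Nonempty (PP rlA5 ≃* alternatingGroup (Fin 3 ⊕ Bool)) :=
  iso_of_cert (x := cycA (0 : Fin 3)) (y := (⟨yP 2 false, sgnA5⟩ : alternatingGroup (Fin 3 ⊕ Bool))) (s := 1) (k := 3) (m := 20) (k0 := 2) (k1 := 2)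
    (by decide) (by norm_num) (by decide) (by decide) tcA5 relA5
    (closure_alt 2 false sgnA5)
    (by
      haveI : Nontrivial (Fin 3 ⊕ Bool) := ⟨⟨Sum.inr false, Sum.inr true, by simp⟩⟩
      have h1 := two_mul_nat_card_alternatingGroup (α := Fin 3 ⊕ Bool)
      rw [Nat.card_eq_fintype_card (α := Perm (Fin 3 ⊕ Bool)), Fintype.card_perm] at h1
      simp only [Fintype.card_sum, Fintype.card_fin, Fintype.card_bool] at h1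
      have h2 : (3 + 2).factorial = 120 := by decide
      omega)

theorem presA5 : Nonempty (PP rlA5 ≃* alternatingGroup (Fin 5)) := by
  obtain ⟨φ⟩ := presA5'
  have hc : Fintype.card (Fin 3 ⊕ Bool) = 5 := by simp
  exact ⟨φ.trans (Fintype.equivFinOfCardEq hc).altCongrHom⟩

/-- relators -/
def rlA6 : List (List ℕ) := [[0,0,0],[1,1,1,1],[0,1,0,1,0,1,0,1,0,1],[0,0,1,1,1,0,1,0,0,1,1,1,0,1],[0,1,1,0,1,1,0,1,1,0,1,1]]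
/-- table -/
def tbA6 : List (List ℕ) := [[1,0],[2,3],[0,4],[5,6],[7,8],[9,10],[11,12],[13,14],[15,16],[3,17],[18,19],[20,21],[22,1],[4,23],[24,25],[26,27],[28,2],[29,30],[31,32],[33,34],[6,35],[36,26],[37,38],[39,40],[41,42],[43,28],[8,44],[45,46],[32,7],[47,48],[48,37],[10,49],[16,50],[51,52],[53,5],[54,55],[56,39],[12,9],[57,58],[59,56],[60,61],[14,62],[30,63],[62,33],[49,11],[64,65],[55,66],[17,43],[42,54],[67,68],[38,69],[19,70],[69,47],[61,57],[71,72],[73,74],[21,75],[50,76],[77,59],[23,22],[63,78],[34,13],[25,64],[40,77],[27,79],[80,81],[82,15],[44,31],[83,67],[81,18],[78,84],[35,85],[84,29],[46,73],[72,20],[86,36],[70,80],[87,24],[76,82],[66,41],[85,53],[52,83],[79,86],[88,45],[74,88],[65,87],[89,60],[58,89],[68,51],[75,71]]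
/-- words -/
def wdA6 : List (List ℕ) := [[],[0],[0,0],[0,1],[0,0,1],[0,1,0],[0,1,1],[0,0,1,0],[0,0,1,1],[0,1,0,0],[0,1,0,1],[0,1,1,0],[0,1,1,1],[0,0,1,0,0],[0,0,1,0,1],[0,0,1,1,0],[0,0,1,1,1],[0,1,0,0,1],[0,1,0,1,0],[0,1,0,1,1],[0,1,1,0,0],[0,1,1,0,1],[0,1,1,1,0],[0,0,1,0,0,1],[0,0,1,0,1,0],[0,0,1,0,1,1],[0,0,1,1,0,0],[0,0,1,1,0,1],[0,0,1,1,1,0],[0,1,0,0,1,0],[0,1,0,0,1,1],[0,1,0,1,0,0],[0,1,0,1,0,1],[0,1,0,1,1,0],[0,1,0,1,1,1],[0,1,1,0,0,1],[0,1,1,0,1,0],[0,1,1,1,0,0],[0,1,1,1,0,1],[0,0,1,0,0,1,0],[0,0,1,0,0,1,1],[0,0,1,0,1,0,0],[0,0,1,0,1,0,1],[0,0,1,0,1,1,0],[0,0,1,1,0,0,1],[0,0,1,1,0,1,0],[0,0,1,1,0,1,1],[0,1,0,0,1,0,0],[0,1,0,0,1,0,1],[0,1,0,1,0,0,1],[0,1,0,1,0,1,1],[0,1,0,1,1,0,0],[0,1,0,1,1,0,1],[0,1,0,1,1,1,0],[0,1,1,0,0,1,0],[0,1,1,0,0,1,1],[0,1,1,0,1,0,0],[0,1,1,1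,0,1,0],[0,1,1,1,0,1,1],[0,0,1,0,0,1,0,0],[0,0,1,0,0,1,1,0],[0,0,1,0,0,1,1,1],[0,0,1,0,1,0,0,1],[0,0,1,0,1,0,1,1],[0,0,1,1,0,1,0,0],[0,0,1,1,0,1,0,1],[0,0,1,1,0,1,1,1],[0,1,0,1,0,0,1,0],[0,1,0,1,0,0,1,1],[0,1,0,1,0,1,1,1],[0,1,0,1,1,0,0,1],[0,1,1,0,0,1,0,0],[0,1,1,0,0,1,0,1],[0,1,1,0,0,1,1,0],[0,1,1,0,0,1,1,1],[0,1,1,0,1,0,0,1],[0,1,1,1,0,1,0,1],[0,1,1,1,0,1,1,0],[0,0,1,0,0,1,1,0,1],[0,0,1,1,0,1,0,0,1],[0,0,1,1,0,1,0,1,0],[0,0,1,1,0,1,0,1,1],[0,0,1,1,0,1,1,1,0],[0,1,0,1,0,0,1,1,0],[0,1,0,1,1,0,0,1,1],[0,1,1,0,0,1,0,0,1],[0,1,1,0,1,0,0,1,0],[0,1,1,1,0,1,1,0,0],[0,1,0,1,0,0,1,1,0,0],[0,1,1,0,1,0,0,1,0,0]]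
/-- tree -/
def trA6 : List (ℕ × ℕ) := [(0,0),(1,0),(1,1),(2,1),(3,0),(3,1),(4,0),(4,1),(5,0),(5,1),(6,0),(6,1),(7,0),(7,1),(8,0),(8,1),(9,1),(10,0),(10,1),(11,0),(11,1),(12,0),(13,1),(14,0),(14,1),(15,0),(15,1),(16,0),(17,0),(17,1),(18,0),(18,1),(19,0),(19,1),(20,1),(21,0),(22,0),(22,1),(23,0),(23,1),(24,0),(24,1),(25,0),(26,1),(27,0),(27,1),(29,0),(29,1),(31,1),(32,1),(33,0),(33,1),(34,0),(35,0),(35,1),(36,0),(38,0),(38,1),(39,0),(40,0),(40,1),(41,1),(42,1),(45,0),(45,1),(46,1),(49,0),(49,1),(50,1),(51,1),(54,0),(54,1),(55,0),(55,1),(56,1),(57,1),(58,0),(60,1),(64,1),(65,0),(65,1),(66,0),(68,0),(70,1),(71,1),(75,0),(77,0),(83,0),(86,0)]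
/-- scans -/
def scA6 : List (ℕ × ℕ) := [(0,5),(1,1),(2,1),(5,1),(13,1),(15,1),(18,1),(20,1),(0,0),(3,0),(4,0),(6,0),(8,0),(10,0),(12,0),(14,0),(17,0),(19,0),(21,0),(23,0),(27,0),(35,0),(58,0),(68,0),(75,0),(0,4),(1,4),(0,3),(1,3),(4,3),(0,2),(1,2),(7,2),(7,1),(9,1),(11,1),(16,0),(34,0),(46,0),(3,4),(9,4),(13,4),(2,3),(8,3),(16,3),(23,3),(32,3),(5,2),(8,2),(22,1),(24,1),(33,1),(36,1),(30,0),(38,0),(40,0),(44,0),(4,4),(21,4),(9,3),(12,3),(13,3),(26,3),(30,3),(56,3),(18,2),(36,2),(29,1),(60,1),(25,0),(17,4),(18,4),(23,4),(24,4),(29,4),(38,4),(6,3),(14,3),(19,3),(20,3),(27,3),(34,3),(41,3),(51,3),(52,3),(55,3),(76,3),(79,3),(81,3),(82,3),(55,2)]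

theorem lenA6 : rlA6.length ≤ 6 := by decide

theorem tcA6 : check (tbl tbA6) (nth [] wdA6) (nth [] (rlA6 ++ [[1]])) rlA6.length 90 2 trA6 scA6 = true := by
  decide +kernel

theorem sgnA6 : sign (yP 3 true) = 1 := by
  decide +kernel

theorem relA6 : ∀ w ∈ rlA6, ev (gT (cycA (0 : Fin 4)) (⟨yP 3 true, sgnA6⟩ : alternatingGroup (Fin 4 ⊕ Bool))) w = 1 := by
  decide +kernel

theorem presA6' : Nonempty (PP rlA6 ≃* alternatingGroup (Fin 4 ⊕ Bool)) :=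
  iso_of_cert (x := cycA (0 : Fin 4)) (y := (⟨yP 3 true, sgnA6⟩ : alternatingGroup (Fin 4 ⊕ Bool))) (s := 1) (k := 4) (m := 90) (k0 := 2) (k1 := 3)
    (by decide) (by norm_num) (by decide) (by decide) tcA6 relA6
    (closure_alt 3 true sgnA6)
    (by
      haveI : Nontrivial (Fin 4 ⊕ Bool) := ⟨⟨Sum.inr false, Sum.inr true, by simp⟩⟩
      have h1 := two_mul_nat_card_alternatingGroup (α := Fin 4 ⊕ Bool)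
      rw [Nat.card_eq_fintype_card (α := Perm (Fin 4 ⊕ Bool)), Fintype.card_perm] at h1
      simp only [Fintype.card_sum, Fintype.card_fin, Fintype.card_bool] at h1
      have h2 : (4 + 2).factorial = 720 := by decide
      omega)

theorem presA6 : Nonempty (PP rlA6 ≃* alternatingGroup (Fin 6)) := by
  obtain ⟨φ⟩ := presA6'
  have hc : Fintype.card (Fin 4 ⊕ Bool) = 6 := by simp
  exact ⟨φ.trans (Fintype.equivFinOfCardEq hc).altCongrHom⟩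

/-- relators -/
def rlA7 : List (List ℕ) := [[0,0,0],[1,1,1,1,1],[0,1,0,1,0,1,0,1,0,1,0,1,0,1],[0,1,1,1,1,0,1,0,1,1,1,1,0,1],[0,1,1,1,0,1,1,0,1,1,1,0,1,1]]
/-- table -/
def tbA7 : List (List ℕ) := [[1,0],[2,3],[0,4],[5,6],[7,8],[9,10],[11,12],[13,14],[15,16],[3,17],[18,19],[20,21],[22,23],[4,24],[25,26],[27,28],[29,30],[31,32],[33,34],[35,36],[6,37],[38,39],[40,41],[42,1],[43,44],[45,46],[47,48],[8,49],[50,51],[52,53],[54,2],[55,56],[57,58],[10,59],[60,61],[62,63],[64,65],[66,67],[68,69],[70,52],[12,71],[72,27],[73,13],[74,75],[76,77],[14,78],[79,80],[81,82],[83,84],[85,86],[87,88],[89,90],[16,91],[92,93],[65,94],[17,95],[96,97],[98,99],[100,101],[102,103],[104,105],[106,107],[19,108],[61,109],[105,110],[30,5],[111,112],[113,114],[21,115],[116,117],[118,119],[120,121],[122,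123],[23,124],[24,125],[126,127],[128,129],[130,42],[131,132],[133,134],[135,136],[26,137],[138,139],[140,141],[101,7],[142,143],[144,22],[28,145],[146,147],[148,149],[114,150],[151,11],[152,153],[121,154],[124,155],[156,157],[158,72],[159,160],[32,161],[162,163],[164,165],[166,9],[167,64],[168,83],[34,169],[36,92],[63,170],[171,172],[173,89],[174,175],[132,176],[37,177],[178,179],[180,181],[182,183],[184,47],[185,186],[187,146],[39,50],[188,189],[190,191],[192,193],[41,25],[194,195],[196,197],[198,199],[200,201],[202,164],[44,203],[201,180],[204,190],[205,54],[206,207],[46,208],[209,210],[211,212],[213,122],[214,215],[189,216],[217,68],[48,218],[219,33],[49,220],[134,98],[208,111],[221,222],[223,224],[225,226],[51,227],[228,229],[230,15],[231,55],[53,232],[233,234],[235,236]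,[237,238],[239,70],[240,241],[56,73],[242,237],[207,243],[244,245],[246,247],[215,248],[58,249],[218,250],[84,196],[59,251],[169,252],[103,253],[254,255],[256,257],[183,18],[251,258],[259,260],[193,261],[197,262],[263,264],[265,266],[222,267],[67,268],[227,269],[90,270],[271,20],[272,205],[69,273],[274,138],[275,148],[276,277],[82,278],[71,279],[232,280],[93,281],[269,282],[283,284],[285,209],[94,286],[287,288],[289,202],[203,290],[75,204],[291,292],[293,294],[295,296],[77,159],[78,231],[110,297],[298,299],[86,300],[143,96],[301,302],[80,303],[304,305],[306,242],[252,307],[308,309],[310,311],[312,313],[314,315],[243,316],[317,318],[258,319],[320,321],[88,322],[282,38],[323,324],[325,118],[326,327],[248,328],[329,62],[330,74],[91,331],[332,333],[250,334],[229,60],[327,335],[3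36,29],[337,338],[339,131],[95,272],[340,341],[342,151],[97,343],[141,31],[344,339],[345,85],[99,346],[347,348],[149,349],[299,43],[153,350],[108,351],[137,352],[277,353],[354,355],[356,329],[107,357],[358,337],[145,359],[109,360],[361,362],[363,35],[364,102],[365,366],[367,368],[112,369],[362,370],[353,312],[309,371],[175,323],[357,192],[172,372],[115,373],[374,375],[376,140],[117,377],[119,214],[378,379],[288,156],[315,380],[255,381],[360,382],[383,40],[123,384],[385,254],[386,211],[297,387],[176,388],[389,158],[125,130],[390,230],[129,178],[391,392],[127,162],[393,394],[199,395],[396,235],[343,397],[160,314],[398,45],[313,244],[399,400],[401,402],[403,263],[404,390],[302,405],[136,120],[346,406],[163,326],[407,408],[388,409],[226,116],[139,66],[410,246],[165,332],[411,412]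,[372,403],[413,414],[415,365],[369,398],[179,416],[417,345],[418,419],[147,420],[421,396],[311,340],[181,361],[154,367],[350,415],[234,422],[150,194],[316,423],[191,424],[425,426],[381,304],[348,128],[427,142],[155,428],[370,200],[429,133],[157,430],[431,223],[432,152],[286,433],[161,434],[435,87],[387,436],[397,427],[437,438],[439,57],[440,441],[442,443],[433,444],[445,364],[170,446],[424,330],[280,447],[448,411],[449,298],[436,450],[451,452],[453,320],[406,429],[444,167],[450,104],[177,336],[454,285],[455,187],[456,144],[457,219],[458,459],[380,76],[331,404],[460,461],[462,171],[461,463],[186,378],[351,464],[253,465],[416,347],[466,289],[463,306],[464,182],[224,410],[341,221],[430,256],[195,317],[307,457],[216,421],[278,399],[467,448],[468,469],[470,437],[471,472],[321,458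],[400,473],[474,451],[247,475],[249,283],[210,474],[476,477],[305,478],[408,79],[479,265],[212,476],[412,480],[266,435],[268,481],[482,81],[441,393],[300,471],[279,483],[481,274],[220,484],[324,401],[420,391],[485,308],[394,486],[487,213],[423,240],[318,113],[414,467],[488,106],[489,184],[490,358],[473,482],[483,342],[236,188],[486,374],[238,460],[284,491],[384,442],[241,206],[492,418],[428,456],[245,276],[493,217],[335,126],[494,293],[447,239],[328,325],[484,100],[377,495],[496,363],[261,488],[267,310],[477,425],[349,301],[270,233],[257,287],[262,497],[281,496],[392,455],[260,493],[475,431],[264,462],[480,413],[319,166],[338,198],[438,291],[498,174],[491,439],[273,259],[334,489],[469,407],[472,417],[371,494],[290,449],[292,499],[382,228],[452,454],[294,485],[500,445],[333,466],[296,453],[366,432],[395,490],[501,356],[426,386],[303,468],[368,135],[405,275],[402,498],[478,385],[409,344],[379,492],[434,376],[322,479],[497,168],[419,185],[355,271],[375,440],[352,383],[359,389],[459,295],[502,470],[503,225],[422,173],[373,354],[495,503],[465,500],[446,501],[499,502],[443,487]]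
/-- words -/
def wdA7 : List (List ℕ) := [[],[0],[0,0],[0,1],[0,0,1],[0,1,0],[0,1,1],[0,0,1,0],[0,0,1,1],[0,1,0,0],[0,1,0,1],[0,1,1,0],[0,1,1,1],[0,0,1,0,0],[0,0,1,0,1],[0,0,1,1,0],[0,0,1,1,1],[0,1,0,0,1],[0,1,0,1,0],[0,1,0,1,1],[0,1,1,0,0],[0,1,1,0,1],[0,1,1,1,0],[0,1,1,1,1],[0,0,1,0,0,1],[0,0,1,0,1,0],[0,0,1,0,1,1],[0,0,1,1,0,0],[0,0,1,1,0,1],[0,0,1,1,1,0],[0,0,1,1,1,1],[0,1,0,0,1,0],[0,1,0,0,1,1],[0,1,0,1,0,0],[0,1,0,1,0,1],[0,1,0,1,1,0],[0,1,0,1,1,1],[0,1,1,0,0,1],[0,1,1,0,1,0],[0,1,1,0,1,1],[0,1,1,1,0,0],[0,1,1,1,0,1],[0,1,1,1,1,0],[0,0,1,0,0,1,0],[0,0,1,0,0,1,1],[0,0,1,0,1,0,0],[0,0,1,0,1,0,1],[0,0,1,0,1,1,0],[0,0,1,0,1,1,1],[0,0,1,1,0,0,1],[0,0,1,1,0,1,0],[0,0,1,1,0,1,1],[0,0,1,1,1,0,0],[0,0,1,1,1,0,1],[0,0,1,1,1,1,0],[0,1,0,0,1,0,0],[0,1,0,0,1,0,1],[0,1,0,0,1,1,0],[0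,1,0,0,1,1,1],[0,1,0,1,0,0,1],[0,1,0,1,0,1,0],[0,1,0,1,0,1,1],[0,1,0,1,1,0,0],[0,1,0,1,1,0,1],[0,1,0,1,1,1,0],[0,1,0,1,1,1,1],[0,1,1,0,0,1,0],[0,1,1,0,0,1,1],[0,1,1,0,1,0,0],[0,1,1,0,1,0,1],[0,1,1,0,1,1,0],[0,1,1,1,0,0,1],[0,1,1,1,0,1,0],[0,1,1,1,1,0,0],[0,0,1,0,0,1,0,0],[0,0,1,0,0,1,0,1],[0,0,1,0,0,1,1,0],[0,0,1,0,0,1,1,1],[0,0,1,0,1,0,0,1],[0,0,1,0,1,0,1,0],[0,0,1,0,1,0,1,1],[0,0,1,0,1,1,0,0],[0,0,1,0,1,1,0,1],[0,0,1,0,1,1,1,0],[0,0,1,0,1,1,1,1],[0,0,1,1,0,0,1,0],[0,0,1,1,0,0,1,1],[0,0,1,1,0,1,0,0],[0,0,1,1,0,1,0,1],[0,0,1,1,0,1,1,0],[0,0,1,1,0,1,1,1],[0,0,1,1,1,0,0,1],[0,0,1,1,1,0,1,0],[0,0,1,1,1,0,1,1],[0,0,1,1,1,1,0,1],[0,1,0,0,1,0,0,1],[0,1,0,0,1,0,1,0],[0,1,0,0,1,0,1,1],[0,1,0,0,1,1,0,0],[0,1,0,0,1,1,0,1],[0,1,0,0,1,1,1,0],[0,1,0,0,1,1,1,1],[0,1,0,1,0,0,1,0],[0,1,0,1,0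,0,1,1],[0,1,0,1,0,1,0,0],[0,1,0,1,0,1,0,1],[0,1,0,1,0,1,1,0],[0,1,0,1,0,1,1,1],[0,1,0,1,1,0,0,1],[0,1,0,1,1,0,1,1],[0,1,0,1,1,1,0,1],[0,1,1,0,0,1,0,0],[0,1,1,0,0,1,0,1],[0,1,1,0,0,1,1,0],[0,1,1,0,0,1,1,1],[0,1,1,0,1,0,0,1],[0,1,1,0,1,0,1,0],[0,1,1,0,1,0,1,1],[0,1,1,0,1,1,0,0],[0,1,1,0,1,1,0,1],[0,1,1,1,0,0,1,0],[0,1,1,1,0,0,1,1],[0,1,1,1,0,1,0,0],[0,1,1,1,0,1,0,1],[0,1,1,1,1,0,0,1],[0,0,1,0,0,1,0,0,1],[0,0,1,0,0,1,0,1,0],[0,0,1,0,0,1,0,1,1],[0,0,1,0,0,1,1,0,0],[0,0,1,0,0,1,1,0,1],[0,0,1,0,0,1,1,1,0],[0,0,1,0,1,0,0,1,0],[0,0,1,0,1,0,0,1,1],[0,0,1,0,1,0,1,0,0],[0,0,1,0,1,0,1,0,1],[0,0,1,0,1,0,1,1,0],[0,0,1,0,1,0,1,1,1],[0,0,1,0,1,1,0,0,1],[0,0,1,0,1,1,0,1,0],[0,0,1,0,1,1,0,1,1],[0,0,1,0,1,1,1,0,0],[0,0,1,0,1,1,1,0,1],[0,0,1,1,0,0,1,0,0],[0,0,1,1,0,0,1,0,1],[0,0,1,1,0,0,1,1,0],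[0,0,1,1,0,1,0,0,1],[0,0,1,1,0,1,0,1,0],[0,0,1,1,0,1,0,1,1],[0,0,1,1,0,1,1,0,0],[0,0,1,1,0,1,1,0,1],[0,0,1,1,0,1,1,1,1],[0,0,1,1,1,0,0,1,0],[0,0,1,1,1,0,1,0,0],[0,0,1,1,1,0,1,0,1],[0,0,1,1,1,0,1,1,1],[0,0,1,1,1,1,0,1,1],[0,1,0,0,1,0,0,1,0],[0,1,0,0,1,0,0,1,1],[0,1,0,0,1,0,1,0,0],[0,1,0,0,1,0,1,1,0],[0,1,0,0,1,0,1,1,1],[0,1,0,0,1,1,0,0,1],[0,1,0,0,1,1,0,1,0],[0,1,0,0,1,1,0,1,1],[0,1,0,0,1,1,1,0,0],[0,1,0,0,1,1,1,0,1],[0,1,0,0,1,1,1,1,0],[0,1,0,1,0,0,1,0,0],[0,1,0,1,0,0,1,1,0],[0,1,0,1,0,1,0,0,1],[0,1,0,1,0,1,1,0,1],[0,1,0,1,0,1,1,1,0],[0,1,0,1,0,1,1,1,1],[0,1,0,1,1,0,0,1,0],[0,1,0,1,1,0,1,1,0],[0,1,0,1,1,0,1,1,1],[0,1,0,1,1,1,0,1,1],[0,1,1,0,0,1,0,0,1],[0,1,1,0,0,1,0,1,0],[0,1,1,0,0,1,0,1,1],[0,1,1,0,0,1,1,0,0],[0,1,1,0,0,1,1,0,1],[0,1,1,0,0,1,1,1,0],[0,1,1,0,0,1,1,1,1],[0,1,1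,0,1,0,0,1,0],[0,1,1,0,1,0,1,0,0],[0,1,1,0,1,0,1,0,1],[0,1,1,0,1,0,1,1,0],[0,1,1,0,1,1,0,1,0],[0,1,1,0,1,1,0,1,1],[0,1,1,1,0,0,1,0,0],[0,1,1,1,0,0,1,0,1],[0,1,1,1,0,0,1,1,0],[0,1,1,1,0,0,1,1,1],[0,1,1,1,0,1,0,1,0],[0,1,1,1,0,1,0,1,1],[0,1,1,1,1,0,0,1,0],[0,1,1,1,1,0,0,1,1],[0,0,1,0,0,1,0,0,1,0],[0,0,1,0,0,1,0,0,1,1],[0,0,1,0,0,1,0,1,0,0],[0,0,1,0,0,1,0,1,0,1],[0,0,1,0,0,1,0,1,1,0],[0,0,1,0,0,1,1,0,0,1],[0,0,1,0,0,1,1,1,0,0],[0,0,1,0,1,0,0,1,0,0],[0,0,1,0,1,0,0,1,1,0],[0,0,1,0,1,0,0,1,1,1],[0,0,1,0,1,0,1,0,0,1],[0,0,1,0,1,0,1,0,1,0],[0,0,1,0,1,0,1,0,1,1],[0,0,1,0,1,0,1,1,0,0],[0,0,1,0,1,0,1,1,0,1],[0,0,1,0,1,0,1,1,1,0],[0,0,1,0,1,1,0,0,1,0],[0,0,1,0,1,1,0,0,1,1],[0,0,1,0,1,1,0,1,0,1],[0,0,1,0,1,1,0,1,1,0],[0,0,1,0,1,1,1,0,0,1],[0,0,1,0,1,1,1,0,1,0],[0,0,1,1,0,0,1,0,0,1],[0,0,1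,1,0,1,0,0,1,0],[0,0,1,1,0,1,0,0,1,1],[0,0,1,1,0,1,0,1,0,0],[0,0,1,1,0,1,0,1,0,1],[0,0,1,1,0,1,0,1,1,0],[0,0,1,1,0,1,0,1,1,1],[0,0,1,1,0,1,1,0,0,1],[0,0,1,1,0,1,1,0,1,0],[0,0,1,1,0,1,1,0,1,1],[0,0,1,1,0,1,1,1,1,0],[0,0,1,1,1,0,0,1,0,0],[0,0,1,1,1,0,1,0,0,1],[0,0,1,1,1,0,1,0,1,0],[0,0,1,1,1,0,1,0,1,1],[0,0,1,1,1,0,1,1,1,0],[0,0,1,1,1,0,1,1,1,1],[0,0,1,1,1,1,0,1,1,0],[0,0,1,1,1,1,0,1,1,1],[0,1,0,0,1,0,0,1,0,0],[0,1,0,0,1,0,0,1,1,0],[0,1,0,0,1,0,0,1,1,1],[0,1,0,0,1,0,1,1,0,0],[0,1,0,0,1,0,1,1,1,1],[0,1,0,0,1,1,0,0,1,0],[0,1,0,0,1,1,0,0,1,1],[0,1,0,0,1,1,0,1,0,0],[0,1,0,0,1,1,0,1,0,1],[0,1,0,0,1,1,0,1,1,1],[0,1,0,0,1,1,1,0,0,1],[0,1,0,0,1,1,1,0,1,1],[0,1,0,1,0,0,1,0,0,1],[0,1,0,1,0,0,1,1,0,1],[0,1,0,1,0,1,0,0,1,1],[0,1,0,1,0,1,1,0,1,0],[0,1,0,1,0,1,1,0,1,1],[0,1,0,1,0,1,1,1,0,0],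[0,1,0,1,0,1,1,1,0,1],[0,1,0,1,1,0,0,1,0,1],[0,1,0,1,1,0,1,1,0,0],[0,1,0,1,1,0,1,1,0,1],[0,1,0,1,1,0,1,1,1,1],[0,1,0,1,1,1,0,1,1,1],[0,1,1,0,0,1,0,0,1,0],[0,1,1,0,0,1,0,0,1,1],[0,1,1,0,0,1,0,1,0,0],[0,1,1,0,0,1,0,1,0,1],[0,1,1,0,0,1,0,1,1,1],[0,1,1,0,0,1,1,0,0,1],[0,1,1,0,0,1,1,0,1,1],[0,1,1,0,0,1,1,1,0,1],[0,1,1,0,0,1,1,1,1,0],[0,1,1,0,1,0,0,1,0,0],[0,1,1,0,1,0,1,0,0,1],[0,1,1,0,1,0,1,0,1,0],[0,1,1,0,1,0,1,1,0,0],[0,1,1,0,1,1,0,1,0,0],[0,1,1,0,1,1,0,1,0,1],[0,1,1,0,1,1,0,1,1,1],[0,1,1,1,0,0,1,0,0,1],[0,1,1,1,0,0,1,0,1,1],[0,1,1,1,0,0,1,1,0,1],[0,1,1,1,0,0,1,1,1,1],[0,1,1,1,0,1,0,1,0,0],[0,1,1,1,0,1,0,1,0,1],[0,1,1,1,0,1,0,1,1,0],[0,1,1,1,1,0,0,1,0,1],[0,1,1,1,1,0,0,1,1,0],[0,1,1,1,1,0,0,1,1,1],[0,0,1,0,0,1,0,0,1,0,0],[0,0,1,0,0,1,0,0,1,1,1],[0,0,1,0,0,1,0,1,0,1,0],[0,0,1,0,0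,1,0,1,0,1,1],[0,0,1,0,0,1,0,1,1,0,0],[0,0,1,0,0,1,0,1,1,0,1],[0,0,1,0,0,1,1,0,0,1,0],[0,0,1,0,0,1,1,0,0,1,1],[0,0,1,0,1,0,0,1,1,0,1],[0,0,1,0,1,0,0,1,1,1,0],[0,0,1,0,1,0,0,1,1,1,1],[0,0,1,0,1,0,1,0,0,1,1],[0,0,1,0,1,0,1,0,1,1,0],[0,0,1,0,1,0,1,0,1,1,1],[0,0,1,0,1,0,1,1,0,0,1],[0,0,1,0,1,0,1,1,0,1,0],[0,0,1,0,1,0,1,1,0,1,1],[0,0,1,0,1,0,1,1,1,0,0],[0,0,1,0,1,1,0,0,1,0,1],[0,0,1,0,1,1,0,0,1,1,0],[0,0,1,0,1,1,0,0,1,1,1],[0,0,1,0,1,1,0,1,0,1,0],[0,0,1,0,1,1,0,1,0,1,1],[0,0,1,0,1,1,0,1,1,0,0],[0,0,1,0,1,1,0,1,1,0,1],[0,0,1,0,1,1,1,0,0,1,0],[0,0,1,0,1,1,1,0,0,1,1],[0,0,1,0,1,1,1,0,1,0,1],[0,0,1,1,0,0,1,0,0,1,0],[0,0,1,1,0,0,1,0,0,1,1],[0,0,1,1,0,1,0,0,1,0,1],[0,0,1,1,0,1,0,0,1,1,0],[0,0,1,1,0,1,0,0,1,1,1],[0,0,1,1,0,1,0,1,0,0,1],[0,0,1,1,0,1,0,1,1,0,0],[0,0,1,1,0,1,0,1,1,0,1],[0,0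,1,1,0,1,0,1,1,1,0],[0,0,1,1,0,1,1,0,0,1,0],[0,0,1,1,0,1,1,0,0,1,1],[0,0,1,1,0,1,1,0,1,0,1],[0,0,1,1,0,1,1,0,1,1,0],[0,0,1,1,0,1,1,1,1,0,0],[0,0,1,1,1,0,0,1,0,0,1],[0,0,1,1,1,0,1,0,0,1,0],[0,0,1,1,1,0,1,0,0,1,1],[0,0,1,1,1,0,1,0,1,0,1],[0,0,1,1,1,0,1,1,1,0,1],[0,0,1,1,1,0,1,1,1,1,0],[0,0,1,1,1,1,0,1,1,0,0],[0,0,1,1,1,1,0,1,1,0,1],[0,0,1,1,1,1,0,1,1,1,0],[0,1,0,0,1,0,0,1,1,0,0],[0,1,0,0,1,0,0,1,1,0,1],[0,1,0,0,1,0,0,1,1,1,0],[0,1,0,0,1,0,1,1,0,0,1],[0,1,0,0,1,1,0,0,1,0,0],[0,1,0,0,1,1,0,0,1,1,0],[0,1,0,0,1,1,0,1,0,0,1],[0,1,0,0,1,1,0,1,0,1,0],[0,1,0,0,1,1,0,1,0,1,1],[0,1,0,0,1,1,0,1,1,1,1],[0,1,0,0,1,1,1,0,1,1,1],[0,1,0,1,0,0,1,0,0,1,1],[0,1,0,1,0,0,1,1,0,1,1],[0,1,0,1,0,1,0,0,1,1,1],[0,1,0,1,0,1,1,0,1,0,0],[0,1,0,1,0,1,1,0,1,0,1],[0,1,0,1,0,1,1,0,1,1,0],[0,1,0,1,0,1,1,1,0,0,1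],[0,1,0,1,0,1,1,1,0,1,0],[0,1,0,1,1,0,0,1,0,1,1],[0,1,0,1,1,0,1,1,0,0,1],[0,1,0,1,1,0,1,1,0,1,0],[0,1,0,1,1,0,1,1,0,1,1],[0,1,0,1,1,0,1,1,1,1,0],[0,1,0,1,1,1,0,1,1,1,0],[0,1,1,0,0,1,0,0,1,0,0],[0,1,1,0,0,1,0,0,1,0,1],[0,1,1,0,0,1,0,0,1,1,0],[0,1,1,0,0,1,0,0,1,1,1],[0,1,1,0,0,1,0,1,0,0,1],[0,1,1,0,0,1,0,1,0,1,1],[0,1,1,0,0,1,1,0,0,1,1],[0,1,1,0,0,1,1,1,1,0,1],[0,1,1,0,1,0,0,1,0,0,1],[0,1,1,0,1,0,1,0,0,1,0],[0,1,1,0,1,0,1,0,0,1,1],[0,1,1,0,1,0,1,0,1,0,0],[0,1,1,0,1,0,1,1,0,0,1],[0,1,1,0,1,1,0,1,0,1,0],[0,1,1,0,1,1,0,1,0,1,1],[0,1,1,1,0,0,1,0,0,1,1],[0,1,1,1,0,0,1,0,1,1,1],[0,1,1,1,0,0,1,1,0,1,1],[0,1,1,1,0,0,1,1,1,1,0],[0,1,1,1,0,1,0,1,0,0,1],[0,1,1,1,0,1,0,1,0,1,0],[0,1,1,1,0,1,0,1,1,0,0],[0,1,1,1,1,0,0,1,0,1,1],[0,1,1,1,1,0,0,1,1,0,1],[0,1,1,1,1,0,0,1,1,1,0],[0,0,1,0,0,1,0,0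,1,1,1,0],[0,0,1,0,0,1,0,1,0,1,1,0],[0,0,1,0,0,1,0,1,0,1,1,1],[0,0,1,0,0,1,0,1,1,0,1,0],[0,0,1,0,0,1,0,1,1,0,1,1],[0,0,1,0,0,1,1,0,0,1,0,1],[0,0,1,0,0,1,1,0,0,1,1,0],[0,0,1,0,1,0,0,1,1,0,1,1],[0,0,1,0,1,0,0,1,1,1,1,0],[0,0,1,0,1,0,1,0,1,1,0,0],[0,0,1,0,1,0,1,0,1,1,0,1],[0,0,1,0,1,0,1,0,1,1,1,0],[0,0,1,0,1,0,1,0,1,1,1,1],[0,0,1,0,1,0,1,1,0,0,1,0],[0,0,1,0,1,0,1,1,0,1,0,0],[0,0,1,0,1,0,1,1,0,1,1,1],[0,0,1,0,1,1,0,0,1,0,1,1],[0,0,1,0,1,1,0,0,1,1,1,0],[0,0,1,0,1,1,0,0,1,1,1,1],[0,0,1,0,1,1,0,1,0,1,0,1],[0,0,1,0,1,1,0,1,1,0,1,0],[0,0,1,0,1,1,1,0,0,1,1,0],[0,0,1,0,1,1,1,0,0,1,1,1],[0,0,1,1,0,0,1,0,0,1,0,0],[0,0,1,1,0,0,1,0,0,1,0,1],[0,0,1,1,0,0,1,0,0,1,1,0],[0,0,1,1,0,1,0,0,1,1,0,1],[0,0,1,1,0,1,0,0,1,1,1,0],[0,0,1,1,0,1,0,1,0,0,1,0],[0,0,1,1,0,1,0,1,0,0,1,1],[0,0,1,1,0,1,0,1,1,0,0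,1],[0,0,1,1,0,1,0,1,1,0,1,0],[0,0,1,1,0,1,1,0,1,1,0,1],[0,0,1,1,1,0,0,1,0,0,1,1],[0,0,1,1,1,0,1,0,0,1,0,1],[0,0,1,1,1,0,1,0,0,1,1,0],[0,0,1,1,1,0,1,0,0,1,1,1],[0,0,1,1,1,0,1,1,1,1,0,0],[0,0,1,1,1,1,0,1,1,0,0,1],[0,0,1,1,1,1,0,1,1,1,0,0],[0,1,0,0,1,0,0,1,1,0,0,1],[0,1,0,0,1,0,0,1,1,0,1,0],[0,1,0,0,1,0,0,1,1,1,0,0],[0,1,0,0,1,0,1,1,0,0,1,1],[0,1,0,0,1,1,0,0,1,0,0,1],[0,1,0,0,1,1,0,0,1,1,0,0],[0,1,0,0,1,1,0,1,0,0,1,1],[0,1,0,0,1,1,0,1,0,1,1,0],[0,1,0,0,1,1,0,1,0,1,1,1],[0,1,0,0,1,1,0,1,1,1,1,0],[0,1,0,0,1,1,1,0,1,1,1,0],[0,1,0,0,1,1,1,0,1,1,1,1],[0,1,0,1,0,0,1,0,0,1,1,0],[0,1,0,1,0,0,1,0,0,1,1,1],[0,1,0,1,0,0,1,1,0,1,1,1],[0,1,0,1,0,1,0,0,1,1,1,0],[0,1,0,1,0,1,1,0,1,0,0,1],[0,1,0,1,0,1,1,0,1,1,0,1],[0,1,0,1,0,1,1,1,0,0,1,0],[0,1,0,1,0,1,1,1,0,1,0,0],[0,1,0,1,1,0,0,1,0,1,1,1],[0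,1,0,1,1,0,1,1,0,0,1,0],[0,1,0,1,1,0,1,1,0,0,1,1],[0,1,0,1,1,0,1,1,0,1,0,0],[0,1,1,0,0,1,0,0,1,0,1,0],[0,1,1,0,0,1,0,0,1,1,0,0],[0,1,1,0,0,1,0,0,1,1,1,0],[0,1,1,0,0,1,0,1,0,0,1,0],[0,1,1,0,0,1,0,1,0,1,1,0],[0,1,1,0,0,1,0,1,0,1,1,1],[0,1,1,0,1,0,0,1,0,0,1,0],[0,1,1,0,1,0,0,1,0,0,1,1],[0,1,1,0,1,0,1,0,0,1,0,0],[0,1,1,0,1,0,1,0,0,1,1,1],[0,1,1,0,1,0,1,1,0,0,1,1],[0,1,1,0,1,1,0,1,0,1,0,1],[0,1,1,1,0,0,1,0,0,1,1,0],[0,0,1,0,0,1,0,0,1,1,1,0,0],[0,0,1,0,0,1,0,1,0,1,1,0,0],[0,0,1,0,0,1,0,1,0,1,1,0,1],[0,0,1,0,0,1,0,1,0,1,1,1,0],[0,0,1,0,0,1,0,1,1,0,1,0,0],[0,0,1,0,0,1,0,1,1,0,1,0,1],[0,0,1,0,0,1,1,0,0,1,0,1,1],[0,0,1,0,0,1,1,0,0,1,1,0,0],[0,0,1,0,1,0,0,1,1,0,1,1,1],[0,0,1,0,1,0,1,0,1,1,0,1,0],[0,0,1,0,1,0,1,0,1,1,0,1,1],[0,0,1,0,1,0,1,0,1,1,1,0,1],[0,0,1,0,1,0,1,1,0,0,1,0,0],[0,0,1,0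,1,0,1,1,0,1,1,1,1],[0,0,1,0,1,1,0,0,1,1,1,0,1],[0,0,1,0,1,1,0,0,1,1,1,1,0],[0,0,1,0,1,1,1,0,0,1,1,0,1],[0,0,1,1,0,0,1,0,0,1,0,0,1],[0,0,1,1,0,1,0,0,1,1,0,1,0],[0,0,1,1,0,1,0,0,1,1,1,0,1],[0,0,1,1,0,1,0,1,0,0,1,0,0],[0,0,1,1,0,1,1,0,1,1,0,1,0],[0,0,1,1,1,0,0,1,0,0,1,1,0],[0,0,1,1,1,0,1,0,0,1,0,1,0],[0,1,0,0,1,0,0,1,1,0,0,1,1],[0,1,0,0,1,0,1,1,0,0,1,1,0],[0,1,0,0,1,1,0,1,0,0,1,1,0],[0,1,0,0,1,1,0,1,0,1,1,1,0],[0,1,0,1,0,0,1,0,0,1,1,0,1],[0,1,0,1,0,0,1,0,0,1,1,1,0],[0,1,0,1,1,0,0,1,0,1,1,1,1],[0,1,1,0,1,0,0,1,0,0,1,0,0],[0,0,1,0,0,1,0,1,0,1,1,0,0,1],[0,0,1,0,0,1,0,1,1,0,1,0,1,0],[0,0,1,0,1,0,1,0,1,1,0,1,1,0],[0,1,0,1,0,0,1,0,0,1,1,0,1,0],[0,1,0,1,0,0,1,0,0,1,1,1,0,0]]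
/-- tree -/
def trA7 : List (ℕ × ℕ) := [(0,0),(1,0),(1,1),(2,1),(3,0),(3,1),(4,0),(4,1),(5,0),(5,1),(6,0),(6,1),(7,0),(7,1),(8,0),(8,1),(9,1),(10,0),(10,1),(11,0),(11,1),(12,0),(12,1),(13,1),(14,0),(14,1),(15,0),(15,1),(16,0),(16,1),(17,0),(17,1),(18,0),(18,1),(19,0),(19,1),(20,1),(21,0),(21,1),(22,0),(22,1),(23,0),(24,0),(24,1),(25,0),(25,1),(26,0),(26,1),(27,1),(28,0),(28,1),(29,0),(29,1),(30,0),(31,0),(31,1),(32,0),(32,1),(33,1),(34,0),(34,1),(35,0),(35,1),(36,0),(36,1),(37,0),(37,1),(38,0),(38,1),(39,0),(40,1),(41,0),(42,0),(43,0),(43,1),(44,0),(44,1),(45,1),(46,0),(46,1),(47,0),(47,1),(48,0),(48,1),(49,0),(49,1),(50,0),(50,1),(51,0),(51,1),(52,1),(53,0),(53,1),(54,1),(55,1),(56,0),(56,1),(57,0),(57,1),(58,0),(58,1),(59,0),(59,1),(60,0),(60,1),(61,0),(61,1),(62,1),(63,1)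,(64,1),(66,0),(66,1),(67,0),(67,1),(68,1),(69,0),(69,1),(70,0),(70,1),(71,0),(71,1),(72,0),(72,1),(73,1),(74,1),(75,0),(75,1),(76,0),(76,1),(77,0),(78,0),(78,1),(79,0),(79,1),(80,0),(80,1),(81,1),(82,0),(82,1),(83,0),(83,1),(85,0),(85,1),(86,0),(87,1),(88,0),(88,1),(89,0),(89,1),(90,1),(91,0),(92,0),(92,1),(93,1),(94,1),(95,0),(95,1),(96,0),(97,0),(97,1),(98,1),(99,0),(99,1),(100,0),(100,1),(101,0),(102,0),(103,0),(104,1),(106,1),(107,0),(107,1),(108,0),(109,0),(109,1),(110,1),(111,1),(112,0),(112,1),(113,0),(113,1),(114,0),(114,1),(115,0),(116,0),(116,1),(117,0),(119,0),(119,1),(120,0),(120,1),(121,0),(121,1),(123,0),(123,1),(124,0),(124,1),(125,0),(125,1),(126,0),(126,1),(127,0),(128,1),(130,0),(131,0),(132,0),(132,1),(133,1),(134,0),(134,1),(135,0),(135,1),(136,0),(137,0)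,(137,1),(138,1),(139,0),(140,1),(141,0),(142,1),(145,0),(145,1),(146,0),(146,1),(147,0),(147,1),(148,1),(149,0),(149,1),(150,0),(151,0),(152,1),(153,0),(153,1),(154,0),(154,1),(155,0),(155,1),(156,0),(157,0),(157,1),(159,0),(160,1),(161,0),(161,1),(162,0),(162,1),(163,1),(164,1),(165,1),(167,1),(168,1),(169,1),(170,0),(170,1),(171,0),(171,1),(173,1),(174,0),(174,1),(175,1),(176,1),(177,0),(177,1),(178,0),(178,1),(179,1),(180,1),(181,1),(182,1),(183,0),(184,0),(185,1),(186,0),(187,0),(188,0),(188,1),(189,1),(190,1),(191,1),(192,1),(193,1),(194,0),(194,1),(195,0),(196,1),(197,0),(197,1),(198,0),(199,1),(201,0),(201,1),(202,0),(202,1),(203,0),(203,1),(206,1),(207,0),(207,1),(208,1),(210,0),(210,1),(211,1),(212,0),(212,1),(213,0),(214,1),(215,0),(215,1),(216,0),(216,1),(217,0),(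217,1),(218,0),(218,1),(219,1),(220,0),(220,1),(221,1),(222,0),(222,1),(223,1),(225,0),(225,1),(226,0),(227,0),(227,1),(228,1),(229,0),(230,0),(231,1),(232,0),(232,1),(233,1),(235,1),(236,0),(237,0),(237,1),(238,0),(240,0),(240,1),(241,0),(242,1),(244,0),(245,0),(246,1),(247,0),(247,1),(248,1),(250,1),(251,1),(252,1),(253,1),(254,0),(254,1),(255,0),(256,1),(257,0),(258,1),(259,1),(260,0),(260,1),(261,0),(262,0),(263,0),(263,1),(264,0),(264,1),(265,1),(266,1),(268,1),(271,1),(272,1),(273,0),(273,1),(274,0),(275,1),(277,0),(277,1),(279,1),(280,1),(281,1),(282,0),(283,1),(284,0),(285,0),(286,1),(287,1),(288,0),(290,0),(292,0),(292,1),(294,0),(294,1),(295,1),(296,0),(297,1),(299,0),(301,0),(301,1),(302,0),(302,1),(303,0),(304,0),(305,1),(307,1),(309,0),(309,1),(310,1),(313,0),(31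5,0),(315,1),(317,0),(317,1),(318,0),(320,1),(321,0),(322,0),(322,1),(323,1),(324,0),(329,1),(331,1),(332,1),(333,0),(333,1),(336,0),(337,1),(339,0),(340,1),(341,0),(342,0),(343,1),(344,1),(345,0),(346,1),(348,0),(348,1),(349,0),(350,0),(350,1),(351,0),(351,1),(352,1),(353,0),(354,1),(356,1),(357,0),(358,0),(359,1),(360,0),(360,1),(361,0),(366,0),(367,0),(368,0),(369,0),(370,0),(370,1),(373,0),(373,1),(374,0),(375,1),(377,1),(378,1),(380,0),(390,0),(391,0),(391,1),(392,0),(393,0),(393,1),(395,1),(396,0),(397,1),(400,0),(400,1),(401,1),(403,0),(405,1),(407,1),(408,0),(411,1),(413,1),(416,0),(417,1),(418,0),(422,0),(423,0),(424,0),(430,1),(433,0),(436,0),(438,0),(442,1),(443,0),(450,1),(460,0),(468,1),(472,0),(477,0),(495,0),(496,0)]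
/-- scans -/
def scA7 : List (ℕ × ℕ) := [(0,5),(1,1),(2,1),(5,1),(7,1),(9,1),(15,1),(18,1),(20,1),(29,1),(31,1),(35,1),(40,1),(45,1),(57,1),(79,1),(81,1),(100,1),(135,1),(173,1),(0,0),(3,0),(4,0),(6,0),(8,0),(10,0),(12,0),(14,0),(16,0),(17,0),(19,0),(21,0),(23,0),(24,0),(26,0),(28,0),(32,0),(34,0),(37,0),(39,0),(41,0),(44,0),(46,0),(48,0),(49,0),(51,0),(53,0),(56,0),(58,0),(59,0),(67,0),(69,0),(71,0),(75,0),(77,0),(78,0),(80,0),(88,0),(91,0),(95,0),(97,0),(99,0),(107,0),(109,0),(112,0),(115,0),(117,0),(119,0),(123,0),(125,0),(127,0),(136,0),(139,0),(147,0),(150,0),(155,0),(157,0),(161,0),(170,0),(177,0),(186,0),(195,0),(210,0),(212,0),(220,0),(236,0),(238,0),(241,0),(245,0),(257,0),(260,0),(264,0),(273,0),(290,0),(292,0),(294,0),(296,0),(303,0),(322,0),(373,0),(443,0),(0,4),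(1,4),(2,4),(8,4),(12,4),(19,4),(26,4),(0,3),(2,3),(4,3),(6,3),(10,3),(12,3),(14,3),(23,3),(26,3),(28,3),(46,3),(49,3),(91,3),(0,2),(6,2),(8,2),(12,2),(29,2),(11,1),(13,1),(22,1),(25,1),(47,1),(50,1),(55,1),(85,1),(87,1),(111,1),(140,1),(152,1),(30,0),(36,0),(84,0),(90,0),(93,0),(172,0),(224,0),(402,0),(4,4),(7,4),(9,4),(11,4),(15,4),(16,4),(17,4),(23,4),(44,4),(51,4),(62,4),(67,4),(80,4),(84,4),(90,4),(91,4),(154,4),(8,3),(16,3),(17,3),(21,3),(24,3),(29,3),(32,3),(37,3),(48,3),(51,3),(53,3),(63,3),(71,3),(82,3),(84,3),(93,3),(99,3),(224,3),(16,2),(26,2),(93,2),(33,1),(38,1),(43,1),(60,1),(62,1),(66,1),(74,1),(76,1),(113,1),(116,1),(120,1),(128,1),(162,1),(188,1),(223,1),(61,0),(137,0),(141,0),(145,0),(149,0),(160,0),(163,0),(165,0),(175,0),(179,0),(191,0),(249,0),(268,0),(27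9,0),(333,0),(5,4),(18,4),(38,4),(47,4),(50,4),(53,4),(58,4),(60,4),(63,4),(92,4),(245,4),(249,4),(334,4),(19,3),(34,3),(35,3),(70,3),(88,3),(100,3),(186,3),(225,3),(233,3),(234,3),(247,3),(249,3),(279,3),(325,3),(335,3),(19,2),(36,2),(116,2),(120,2),(168,2),(70,1),(167,1),(168,1),(256,1),(275,1),(298,1),(310,1),(325,1),(103,0),(110,0),(229,0),(247,0),(253,0),(261,0),(328,0),(335,0),(379,0),(405,0),(29,4),(36,4),(43,4),(48,4),(61,4),(68,4),(83,4),(86,4),(88,4),(100,4),(119,4),(120,4),(157,4),(186,4),(189,4),(199,4),(224,4),(228,4),(262,4),(284,4),(318,4),(328,4),(342,4),(469,4),(30,3),(39,3),(44,3),(50,3),(54,3),(61,3),(72,3),(75,3),(78,3),(83,3),(92,3),(115,3),(132,3),(137,3),(138,3),(149,3),(150,3),(170,3),(172,3),(187,3),(193,3),(212,3),(214,3),(216,3),(226,3),(236,3),(251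,3),(257,3),(292,3),(321,3),(322,3),(329,3),(349,3),(365,3),(371,3),(372,3),(377,3),(380,3),(402,3),(465,3),(38,2),(113,2),(154,2),(106,1),(142,1),(185,1),(194,1),(213,1),(233,1),(239,1),(295,1),(108,0),(129,0),(154,0),(181,0),(255,0),(267,0),(284,0),(302,0),(351,0),(368,0),(371,0),(465,0),(10,4),(21,4),(30,4),(49,4),(54,4),(64,4),(69,4),(71,4),(72,4),(78,4),(82,4),(97,4),(107,4),(111,4),(123,4),(137,4),(146,4),(149,4),(155,4),(168,4),(210,4),(213,4),(214,4),(222,4),(226,4),(230,4),(240,4),(241,4),(246,4),(252,4),(353,4),(356,4),(362,4),(373,4),(395,4),(408,4),(38,3),(42,3),(60,3),(86,3),(95,3),(109,3),(112,3),(117,3),(120,3),(134,3),(146,3),(161,3),(174,3),(202,3),(203,3),(237,3),(259,3),(260,3),(266,3),(267,3),(281,3),(282,3),(305,3),(350,3),(353,3),(357,3),(367,3),(384,3),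(394,3),(423,3),(424,3),(460,3),(478,3),(1,2),(15,2),(42,2),(48,2),(136,2),(144,2),(147,2),(174,2),(72,1),(178,1),(217,1),(301,1),(134,0),(266,0),(278,0),(281,0),(286,0),(300,0),(316,0),(321,0),(341,0),(349,0),(392,0),(426,0),(438,0),(446,0),(3,4),(46,4),(55,4),(66,4),(74,4),(79,4),(85,4),(94,4),(101,4),(113,4),(122,4),(130,4),(132,4),(142,4),(145,4),(147,4),(152,4),(170,4),(178,4),(194,4),(201,4),(212,4),(217,4),(247,4),(248,4),(261,4),(277,4),(285,4),(294,4),(303,4),(314,4),(369,4),(421,4),(433,4),(442,4),(451,4),(478,4),(479,4),(496,4),(5,3),(7,3),(31,3),(96,3),(101,3),(139,3),(207,3),(221,3),(255,3),(278,3),(341,3),(346,3),(360,3),(362,3),(396,3),(450,3),(464,3),(495,0),(392,3)]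

theorem lenA7 : rlA7.length ≤ 6 := by decide

theorem tcA7 : check (tbl tbA7) (nth [] wdA7) (nth [] (rlA7 ++ [[1]])) rlA7.length 504 2 trA7 scA7 = true := by
  decide +kernel

theorem sgnA7 : sign (yP 4 false) = 1 := by
  decide +kernel

theorem relA7 : ∀ w ∈ rlA7, ev (gT (cycA (0 : Fin 5)) (⟨yP 4 false, sgnA7⟩ : alternatingGroup (Fin 5 ⊕ Bool))) w = 1 := by
  decide +kernel

theorem presA7' : Nonempty (PP rlA7 ≃* alternatingGroup (Fin 5 ⊕ Bool)) :=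
  iso_of_cert (x := cycA (0 : Fin 5)) (y := (⟨yP 4 false, sgnA7⟩ : alternatingGroup (Fin 5 ⊕ Bool))) (s := 1) (k := 5) (m := 504) (k0 := 2) (k1 := 4)
    (by decide) (by norm_num) (by decide) (by decide) tcA7 relA7
    (closure_alt 4 false sgnA7)
    (by
      haveI : Nontrivial (Fin 5 ⊕ Bool) := ⟨⟨Sum.inr false, Sum.inr true, by simp⟩⟩
      have h1 := two_mul_nat_card_alternatingGroup (α := Fin 5 ⊕ Bool)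
      rw [Nat.card_eq_fintype_card (α := Perm (Fin 5 ⊕ Bool)), Fintype.card_perm] at h1
      simp only [Fintype.card_sum, Fintype.card_fin, Fintype.card_bool] at h1
      have h2 : (5 + 2).factorial = 5040 := by decide
      omega)

theorem presA7 : Nonempty (PP rlA7 ≃* alternatingGroup (Fin 7)) := by
  obtain ⟨φ⟩ := presA7'
  have hc : Fintype.card (Fin 5 ⊕ Bool) = 7 := by simp
  exact ⟨φ.trans (Fintype.equivFinOfCardEq hc).altCongrHom⟩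

end Cfsg.Agent.Lib.Pres.SmallData
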